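import Cfsg.Agent.MR.RhoA
import Cfsg.Agent.Mat.M23F
import Cfsg.Agent.Mat.M24K
import Cfsg.Agent.PSL2Rec.DegPSL

/-!
# Some character degrees of `M23` and `M24`
-/

set_option autoImplicit false

namespace Cfsg.Agent.MR

open Finset Subgroup Cfsg.Agent.Char Cfsg.Agent.M11 Cfsg.Agent.Mat Cfsg.Agent.Zass Cfsg.Agent.Small
  Cfsg.Agent.Comp
open scoped ComplexConjugate

/-- centralizer orders -/
def c23 (j : ℕ) : ℕ :=
  [14, 14, 15, 15, 23, 23, 8, 12, 11, 11, 14, 14, 32, 15, 180, 2688, 10200960].getD j 0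

/-- fixed points -/
def t23 (j : ℕ) : ℕ × ℕ × ℕ × ℕ :=
  [(1, 3, 1, 3), (1, 3, 1, 3), (1, 1, 4, 1), (1, 1, 4, 1), (1, 1, 1, 1), (1, 1, 1, 1), (2, 4, 2, 8),
    (2, 6, 8, 6), (2, 2, 2, 2), (2, 2, 2, 2), (3, 3, 3, 3), (3, 3, 3, 3), (4, 8, 4, 24), (4, 4, 4, 4),
    (6, 6, 24, 6), (8, 24, 8, 24), (24, 24, 24, 24)].getD j 0

/-- centralizer orders -/
def c24 (j : ℕ) : ℕ :=
  [14, 14, 15, 15, 23, 23, 16, 24, 11, 42, 42, 128, 60, 1080, 21504, 244823040, 12, 20, 384, 7680,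
    21, 21, 504, 96, 24, 12].getD j 0

/-- fixed points -/
def t24 (j : ℕ) : ℕ × ℕ × ℕ × ℕ :=
  [(1, 3, 1, 3), (1, 3, 1, 3), (1, 1, 4, 1), (1, 1, 4, 1), (1, 1, 1, 1), (1, 1, 1, 1), (2, 4, 2, 8),
    (2, 6, 8, 6), (2, 2, 2, 2), (3, 3, 3, 3), (3, 3, 3, 3), (4, 8, 4, 24), (4, 4, 4, 4),
    (6, 6, 24, 6), (8, 24, 8, 24), (24, 24, 24, 24), (0, 2, 0, 6), (0, 4, 0, 4), (0, 8, 0, 24),
    (0, 24, 0, 24), (0, 0, 3, 0), (0, 0, 3, 0), (0, 0, 24, 0), (0, 0, 0, 24), (0, 0, 0, 0),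
    (0, 0, 0, 0)].getD j 0

section
open M23y

set_option maxRecDepth 100000 in
theorem cov23 [Fintype (cl ms23)] : ∃ x, Cov (cl ms23) 17 10200960 c23 (nth os) t23 x := by
  have hx : ∀ j < 17, R.x (J.el fun j => ms23.getD j 1) j ∈ cl ms23 := fun j hj => by
    have := (ctx model23).x_mem hj
    rwa [GpL_eq, G23_eq] at this
  have : Fact (J.n ≤ 256) := fact24
  have hv := fun j hj => (wp_val model23 hs ((ctx model23).xw j hj)).trans (low23_chk j hj).1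
  refine ⟨fun j => if h : j < 17 then ⟨_, hx j h⟩ else 1, card_cl23, fun j hj => ?_, fun j hj => ?_,
    fun F hF => sum_of_cover _ _ (fun g => ?_) (fun j hj => ?_) card_cl23 (by decide) (by decide) hF⟩
  · rw [dif_pos hj, orderOf_mk, ords model23 j hj]
  · rw [dif_pos hj]
    exact (congrArg fx4 (hv j hj)).trans
      ((by decide +kernel : ∀ j < 17, fx4 (rc23.getD j 0) = t23 j) j hj)
  · obtain ⟨j, hj, c, hc, e⟩ := classes model23 g.1 (G23_eq.ge g.2)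
    rw [G23_eq] at hc
    refine ⟨j, hj, ?_⟩
    rw [dif_pos hj]
    exact IsConj.symm (isConj_iff.mpr ⟨⟨c, hc⟩, Subtype.ext (mul_inv_eq_iff_eq_mul.mpr e)⟩)
  · obtain ⟨-, h2, h3⟩ := low23_chk j hj
    rw [dif_pos hj, c23, ← h3]
    exact le_cc_of_lowChk (P := in23) (fun x hx => cl23_eq ▸ in23_spec x hx) (hv j hj) h2

end

section
open M24y

set_option maxRecDepth 100000 in
theorem cov24 [Fintype (cl ms24)] : ∃ x, Cov (cl ms24) 26 244823040 c24 (nth os) t24 x := by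
  have hx : ∀ j < 26, R.x (J.el fun j => ms24.getD j 1) j ∈ cl ms24 := fun j hj => by
    have := (ctx model24).x_mem hj
    rwa [GpL_eq, G24_eq] at this
  have : Fact (J.n ≤ 256) := fact24
  have hv := fun j hj => (wp_val model24 hs ((ctx model24).xw j hj)).trans (low24_chk j hj).1
  refine ⟨fun j => if h : j < 26 then ⟨_, hx j h⟩ else 1, card_cl24, fun j hj => ?_, fun j hj => ?_,
    fun F hF => sum_of_cover _ _ (fun g => ?_) (fun j hj => ?_) card_cl24 (by decide) (by decide) hF⟩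
  · rw [dif_pos hj, orderOf_mk, ords model24 j hj]
  · rw [dif_pos hj]
    exact (congrArg fx4 (hv j hj)).trans
      ((by decide +kernel : ∀ j < 26, fx4 (rc24.getD j 0) = t24 j) j hj)
  · obtain ⟨j, hj, c, hc, e⟩ := classes model24 g.1 (G24_eq.ge g.2)
    rw [G24_eq] at hc
    refine ⟨j, hj, ?_⟩
    rw [dif_pos hj]
    exact IsConj.symm (isConj_iff.mpr ⟨⟨c, hc⟩, Subtype.ext (mul_inv_eq_iff_eq_mul.mpr e)⟩)
  · obtain ⟨-, h2, h3⟩ := low24_chk j hj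
    rw [dif_pos hj, c24, ← h3]
    exact le_cc_of_lowChk (P := in24) (fun x hx => cl24_eq ▸ in24_spec' x hx) (hv j hj) h2

end

/-- The characters of degree 1, 22, 230, 253, 1035, 2024, 770 + 770, 896 + 896. -/
def P23 (i : ℕ) : List (ℤ × ℕ × ℕ × ℕ × ℕ) :=
  [[(1, 0, 0, 0, 0)], [(-2, 0, 0, 0, 0), (1, 1, 0, 0, 0)],
    [(2, 0, 0, 0, 0), (-3, 1, 0, 0, 0), (-1, 0, 1, 0, 0), (1, 2, 0, 0, 0)],
    [(7, 0, 0, 0, 0), (-13, 1, 0, 0, 0), (-1, 0, 1, 0, 0), (7, 2, 0, 0, 0), (-1, 1, 1, 0, 0),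
      (-1, 3, 0, 0, 0), (1, 0, 0, 0, 1), (-2, 0, 2, 0, 0), (1, 2, 1, 0, 0)],
    [(-11, 0, 0, 0, 0), (20, 1, 0, 0, 0), (4, 0, 1, 0, 0), (-11, 2, 0, 0, 0), (1, 0, 0, 1, 0),
      (-1, 1, 1, 0, 0), (2, 3, 0, 0, 0), (-1, 0, 0, 0, 1), (2, 0, 2, 0, 0), (-1, 2, 1, 0, 0)],
    [(6, 0, 0, 0, 0), (-12, 1, 0, 0, 0), (-4, 0, 1, 0, 0), (8, 2, 0, 0, 0), (-2, 0, 0, 1, 0),
      (2, 1, 1, 0, 0), (-2, 3, 0, 0, 0), (1, 0, 0, 0, 1), (-2, 0, 2, 0, 0), (1, 2, 1, 0, 0)],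
    [(-4, 0, 0, 0, 0), (3, 1, 0, 0, 0), (-2, 0, 1, 0, 0), (1, 0, 0, 1, 0)],
    [(8, 0, 0, 0, 0), (-8, 1, 0, 0, 0), (-4, 0, 1, 0, 0), (-32, 2, 0, 0, 0), (-68, 0, 0, 1, 0),
      (-36, 1, 1, 0, 0), (30, 3, 0, 0, 0), (24, 0, 0, 0, 1), (-41, 0, 2, 0, 0), (62, 1, 0, 1, 0),
      (3, 2, 1, 0, 0), (-14, 1, 0, 0, 1), (1, 0, 1, 0, 1)]].getD i []

/-- coefficients -/
def a23 (i : ℕ) : ℤ := [2576, 1610, -644, 1610, -966, 7084, 1771, 2254].getD i 0

section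
variable {K : Subgroup (CP 24)} [Fintype K] {x : ℕ → K}

theorem rho24_of (h : Cov K 26 244823040 c24 (nth M24y.os) t24 x) : Rho K 1771 :=
  have := h.irr [(-1, 0, 0, 0, 0), (1, 1, 0, 0, 0), (-1, 0, 1, 0, 0), (1, 0, 0, 1, 0)] (d := 1771)
    (by decide +kernel) (by decide +kernel)
  ⟨_, this.1, this.2.ge.antisymm this.2.le ▸ dvd_rfl⟩

theorem irr23 (h : Cov K 17 10200960 c23 (nth M23y.os) t23 x) {i : ℕ} (hi : i < 6) :
    IsIrrCharacter K (th K (P23 i)) ∧ deg (th K (P23 i)) = [1, 22, 230, 253, 1035, 2024].getD i 0 :=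
  h.irr _ (by revert i; decide +kernel) (by revert i; decide +kernel)

theorem not_rho23_of (h : Cov K 17 10200960 c23 (nth M23y.os) t23 x) : ¬ Rho K 161 := by
  rintro ⟨χ, hχ, hd⟩
  have h1 : ∀ i < 6, classInner (th K (P23 i)) χ = 0 := fun i hi =>
    inner_irr_ne (irr23 h hi).1 hχ fun e => by
      rw [← e, (irr23 h hi).2] at hd
      exact (by decide : ∀ i < 6, ¬ 161 ∣ [1, 22, 230, 253, 1035, 2024].getD i 0) i hi hd
  obtain ⟨c, h2, -, h3⟩ := gen_exists_coeff (gen_th (K := K) (P23 6))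
  rw [h.norm (P23 6) (n := 2) (by decide +kernel)] at h3
  have h4 : c ⟨χ, hχ⟩ ^ 2 ≤ 2 := by
    have := single_le_sum (f := fun φ => c φ ^ 2) (fun φ _ => sq_nonneg _) (mem_univ ⟨χ, hχ⟩)
    rwa [show ∑ φ, c φ ^ 2 = 2 by exact_mod_cast h3.symm] at this
  obtain ⟨m, h5⟩ := inner_gen_gen (gen_th (K := K) (P23 7)) (gen_of_char (irr_isCharacter hχ))
  have h6 : ∑ i ∈ range 8, (a23 i : ℂ) * ((10200960 : ℕ) * classInner (th K (P23 i)) χ) =
      (10200960 : ℕ) * (2 * deg χ) := by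
    simp only [h.inner (irr_isClassFunction hχ), mul_sum, ← mul_assoc]
    rw [sum_comm]
    simp only [← sum_mul]
    rw [sum_eq_single_of_mem 16 (by decide) fun j hj hj' => ?_]
    · have e : x 16 = 1 := orderOf_eq_one_iff.1 (h.ord 16 (by norm_num))
      rw [e, irr_deg hχ, map_natCast]
      congr 1
      exact_mod_cast (by decide +kernel : ∑ i ∈ range 8, (a23 i : ℚ) *
        ((10200960 / c23 16 : ℕ) * evT (P23 i) (t23 16)) = (10200960 : ℕ) * 2)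
    · rcases (by decide +kernel : ∀ j ∈ range 17, j ≠ 16 → (7 ∣ nth M23y.os j ∨ 23 ∣ nth M23y.os j) ∨
        ∑ i ∈ range 8, (a23 i : ℚ) * ((10200960 / c23 j : ℕ) * evT (P23 i) (t23 j)) = 0) j hj hj'
        with (e | e) | e
      · rw [PSL2Rec.irr_eq_zero_of_dvd hχ (p := 7) (A := 7) (B := 1457280) (by norm_num) h.card
          (Dvd.dvd.trans (by norm_num) hd) (by norm_num) (h.ord j (mem_range.1 hj) ▸ e)]
        simp
      · rw [PSL2Rec.irr_eq_zero_of_dvd hχ (p := 23) (A := 23) (B := 443520) (by norm_num) h.card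
          (Dvd.dvd.trans (by norm_num) hd) (by norm_num) (h.ord j (mem_range.1 hj) ▸ e)]
        simp
      · exact mul_eq_zero_of_left (by exact_mod_cast e) _
  rw [sum_range_succ, sum_range_succ, sum_eq_zero fun i hi => by rw [h1 i (mem_range.1 hi)]; simp,
    h2 ⟨χ, hχ⟩, h5] at h6
  have h7 : 1771 * c ⟨χ, hχ⟩ + 2254 * m = 2 * deg χ := by
    have : ((1771 * c ⟨χ, hχ⟩ + 2254 * m : ℤ) : ℂ) = ((2 * deg χ : ℤ) : ℂ) := by
      simp only [a23, List.getD_cons_succ, List.getD_cons_zero] at h6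
      push_cast at h6 ⊢
      linear_combination h6 / 10200960
    exact_mod_cast this
  have h8 := deg_dvd_card hχ
  rw [h.card] at h8
  have h9 : c ⟨χ, hχ⟩ = 0 := by
    have : -2 < c ⟨χ, hχ⟩ ∧ c ⟨χ, hχ⟩ < 2 := by constructor <;> nlinarith
    omega
  have h10 : 49 ∣ deg χ := by omega
  exact absurd (h10.trans h8) (by norm_num)

end

theorem mo_congr {G H : Type*} [Group G] [Group H] (e : G ≃* H) (n : ℕ) : mo G n = mo H n := by
  rw [mo, mo, ← Set.ncard_image_of_injective _ e.injective]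
  congr 1
  ext y
  obtain ⟨x, rfl⟩ := e.surjective y
  simp

theorem tr {S B : Type*} [Group S] [Finite S] [Group B] [Finite B] {K : Subgroup B} (e : S ≃* K) :
    Nat.card S = Nat.card K ∧ (∀ n, mo S n = mo K n) ∧ ∀ d, Rho S d ↔ Rho K d :=
  ⟨Nat.card_congr e.toEquiv, mo_congr e, fun _ => ⟨fun h => h.of_surj e.symm.toMonoidHom
    e.symm.surjective, fun h => h.of_surj e.toMonoidHom e.surjective⟩⟩

variable {S : Type*} [Group S] [Finite S]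

theorem of23 (h : Spor.IsoM23 S) : N23 S ∧ Rho S 253 ∧ ¬ Rho S 161 := by
  obtain ⟨e⟩ := h
  have e₀ : Spor.M23 ≃* cl ms23 := (Spor.M23.equivMapOfInjective eM.toMonoidHom eM.injective).trans
    (MulEquiv.subgroupCongr cl23_eq.symm)
  obtain ⟨h1, h2, h3⟩ := tr (e.trans e₀)
  have := Fintype.ofFinite (cl ms23)
  obtain ⟨x, hx⟩ := cov23
  have h4 := irr23 hx (i := 3) (by norm_num)
  exact ⟨n23_of_nse (h1.trans card_cl23) fun c => by simp only [h2]; exact nse23 c,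
    (h3 _).2 ⟨_, h4.1, h4.2.ge.antisymm h4.2.le ▸ dvd_rfl⟩, mt (h3 _).1 (not_rho23_of hx)⟩

theorem of24 (h : Spor.IsoM24 S) : N24 S ∧ Rho S 253 ∧ Rho S 161 := by
  obtain ⟨e⟩ := h
  have e₀ : Cfsg.M24 ≃* cl ms24 := (Cfsg.M24.equivMapOfInjective eM.toMonoidHom eM.injective).trans
    (MulEquiv.subgroupCongr cl24_eq.symm)
  obtain ⟨h1, h2, h3⟩ := tr (e.trans e₀)
  have := Fintype.ofFinite (cl ms24)
  obtain ⟨x, hx⟩ := cov24
  have h4 := (h3 _).2 (rho24_of hx)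
  exact ⟨n24_of_nse (h1.trans card_cl24) fun c => by simp only [h2]; exact nse24 c,
    h4.imp fun _ h => ⟨h.1, Dvd.dvd.trans (by norm_num) h.2⟩,
    h4.imp fun _ h => ⟨h.1, Dvd.dvd.trans (by norm_num) h.2⟩⟩

end Cfsg.Agent.MR
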