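import Cfsg.Agent.M12R.Split
import Cfsg.Agent.Mat.M23F

/-!
# Central extensions of `M23` by groups of order dividing 24 split over the derived subgroup
-/

set_option autoImplicit false

namespace Cfsg.Agent.MR

open Subgroup Cfsg.Agent.Local Cfsg.Agent.M11 Cfsg.Agent.M12R.Spl

section abstract

variable {C M : Type*} [Group C] [Finite C] [Group M] [Finite M]

omit [Finite C] in
theorem comm_of_sq {a b : C} (ha : a * a = 1) (hb : b * b = 1) (hab : a * b * (a * b) = 1) :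
    a * b = b * a := by
  have h1 : a⁻¹ = a := inv_eq_of_mul_eq_one_right ha
  have h2 : b⁻¹ = b := inv_eq_of_mul_eq_one_right hb
  have h3 : (a * b)⁻¹ = a * b := inv_eq_of_mul_eq_one_right hab
  rw [mul_inv_rev, h1, h2] at h3
  exact h3.symm

theorem pow_lt {x y : C} {n : ℕ} (hn : 0 < n) (h : x ^ n = 1) (hy : y ∈ zpowers x) :
    ∃ i < n, y = x ^ i := by
  obtain ⟨k, rfl⟩ := mem_powers_iff_mem_zpowers.2 hy
  refine ⟨k % n, Nat.mod_lt _ hn, ?_⟩
  simp only
  conv_lhs => rw [← Nat.div_add_mod k n, pow_add, pow_mul, h, one_pow, one_mul]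

theorem dih_norm {a b : C} (ha : a * a = 1) (hb : b * b = 1) :
    zpowers a ≤ normalizer (zpowers (a * b) : Set C) := by
  rw [zpowers_le]
  refine mem_normalizer_of_conj_mem ?_
  rintro _ ⟨k, rfl⟩
  simp only
  rw [← conj_zpow]
  refine zpow_mem ?_ k
  have : a * (a * b) * a⁻¹ = (a * b)⁻¹ := by
    rw [← mul_assoc, ha, one_mul, mul_inv_rev, inv_eq_of_mul_eq_one_right hb]
  rw [this]
  exact inv_mem (mem_zpowers _)

theorem dih_mem {a b d : C} (ha : a * a = 1) (hb : b * b = 1) (h4 : (a * b) ^ 4 = 1)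
    (hd : d ∈ zpowers (a * b) ⊔ zpowers a) : ∃ i < 4, ∃ j < 2, d = (a * b) ^ i * a ^ j := by
  obtain ⟨n, hn, m, hm, rfl⟩ := (mem_sup_of_right_le_normalizer (dih_norm ha hb)).1 hd
  obtain ⟨i, hi, rfl⟩ := pow_lt (by norm_num) h4 hn
  obtain ⟨j, hj, rfl⟩ := pow_lt (n := 2) (by norm_num) (by rw [pow_two, ha]) hm
  exact ⟨i, hi, j, hj, rfl⟩

/-- The data in the quotient that exclude a perfect double cover. -/
structure Data2 (V : Subgroup M) (u₁ u₂ u₃ g a b : M) : Prop where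
  conj : ∀ s t : M, orderOf s = 2 → orderOf t = 2 → IsConj s t
  sq : ∀ v ∈ V, v * v = 1
  card : Nat.card V = 16
  mem : u₁ ∈ V ∧ u₂ ∈ V ∧ u₃ ∈ V
  ne : u₁ ≠ 1 ∧ u₂ ≠ 1 ∧ u₃ ≠ 1 ∧ u₁ * u₂ ≠ 1 ∧ u₁ * u₃ ≠ 1 ∧ u₂ * u₃ ≠ 1 ∧ u₁ * (u₂ * u₃) ≠ 1
  g3 : g * g * g = 1
  nrm : ∀ v ∈ V, g * v * g⁻¹ ∈ V ∧ a * v * a⁻¹ ∈ V ∧ b * v * b⁻¹ ∈ V
  fpf : ∀ v ∈ V, v * (g * v * g⁻¹) * (g⁻¹ * v * g) = 1
  a2 : a * a = 1
  b2 : b * b = 1
  ab4 : (a * b) ^ 4 = 1
  ag : a⁻¹ * g * a = g⁻¹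
  bg : b⁻¹ * g * b = g
  free : ∀ i < 4, ∀ j < 2, (a * b) ^ i * a ^ j ∈ V → i = 0 ∧ j = 0
  ord : ∃ m, Nat.card M = 128 * m ∧ ¬ 2 ∣ m

theorem core2 (π : C →* M) (hπ : Function.Surjective π) {z : C} (hz1 : z ≠ 1) (hz : π z = 1)
    (hzc : ∀ c, z * c = c * z) (hk : ∀ c, π c = 1 → c = 1 ∨ c = z) (hz' : z ∈ commutator C)
    {V : Subgroup M} {u₁ u₂ u₃ g a b : M} (h : Data2 V u₁ u₂ u₃ g a b) : False := by
  have hz2 : z * z = 1 := (hk _ (by rw [map_mul, hz, one_mul])).resolve_right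
    fun e => hz1 (mul_eq_left.1 e)
  have lift : ∀ c d, π c = π d → c = d ∨ c = d * z := fun c d e =>
    (hk (d⁻¹ * c) (by rw [map_mul, map_inv, e, inv_mul_cancel])).imp
      (fun e => (inv_mul_eq_one.1 e).symm) fun e => by rw [← e, mul_inv_cancel_left]
  have zsq : ∀ c, c * z * (c * z) = c * c := fun c => by
    rw [mul_assoc, ← mul_assoc z, hzc, mul_assoc c, hz2, mul_one]
  have same : ∀ c d, π c * π c = 1 → π c ≠ 1 → π d * π d = 1 → π d ≠ 1 → c * c = z → d * d = z := by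
    intro c d h1 h2 h3 h4 h5
    obtain ⟨m, hm⟩ := isConj_iff.1 (h.conj _ _ (orderOf_eq_prime (by rw [pow_two, h1]) h2)
      (orderOf_eq_prime (by rw [pow_two, h3]) h4))
    obtain ⟨m, rfl⟩ := hπ m
    have h6 : m * c * m⁻¹ * (m * c * m⁻¹) = z := by
      rw [show m * c * m⁻¹ * (m * c * m⁻¹) = m * (c * c) * m⁻¹ by group, h5, ← hzc,
        mul_inv_cancel_right]
    rcases lift d (m * c * m⁻¹) (by rw [← hm, map_mul, map_mul, map_inv]) with e | e
    · rw [e, h6]
    · rw [e, zsq, h6]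
  have sq : ∀ c, π c * π c = 1 → c * c = 1 := by
    intro c hc
    by_cases h1 : π c = 1
    · rcases hk c h1 with rfl | rfl
      · exact one_mul 1
      · exact hz2
    refine (hk (c * c) (by rw [map_mul, hc])).resolve_right fun e => ?_
    obtain ⟨x₁, rfl⟩ := hπ u₁
    obtain ⟨x₂, rfl⟩ := hπ u₂
    obtain ⟨x₃, rfl⟩ := hπ u₃
    obtain ⟨m1, m2, m3⟩ := h.mem
    obtain ⟨n1, n2, n3, n12, n13, n23, n123⟩ := h.ne
    have k : ∀ d, π d ∈ V → π d ≠ 1 → d * d = z := fun d h2 h3 => same c d hc h1 (h.sq _ h2) h3 e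
    have anti : ∀ p q : C, p * p = z → q * q = z → p * q * (p * q) = z → q * p = p * q * z := by
      intro p q h2 h3 h4
      have h5 : q * p * q = p := mul_left_cancel (a := p) (by rw [h2, ← h4]; group)
      calc q * p = q * p * (z * z) := by rw [hz2, mul_one]
        _ = q * p * q * q * z := by rw [← h3]; group
        _ = p * q * z := by rw [h5]
    have k1 := k x₁ m1 n1
    have e12 := anti x₁ x₂ k1 (k _ m2 n2) (k _ (by rw [map_mul]; exact mul_mem m1 m2)
      (by rwa [map_mul]))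
    have e13 := anti x₁ x₃ k1 (k _ m3 n3) (k _ (by rw [map_mul]; exact mul_mem m1 m3)
      (by rwa [map_mul]))
    have e123 := anti x₁ (x₂ * x₃) k1 (k _ (by rw [map_mul]; exact mul_mem m2 m3)
      (by rwa [map_mul])) (k _ (by rw [map_mul, map_mul]; exact mul_mem m1 (mul_mem m2 m3))
      (by rwa [map_mul, map_mul]))
    rw [mul_assoc x₂, e13, ← mul_assoc, ← mul_assoc, e12, mul_assoc (x₁ * x₂), hzc x₃] at e123
    have : x₁ * (x₂ * x₃) * z * z = x₁ * (x₂ * x₃) * z := by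
      refine Eq.trans ?_ e123
      group
    exact hz1 (mul_eq_left.1 this)
  obtain ⟨g, rfl⟩ := hπ g
  obtain ⟨a, rfl⟩ := hπ a
  obtain ⟨b, rfl⟩ := hπ b
  have cm : ∀ x y, π x ∈ V → π y ∈ V → x * y = y * x := fun x y hx hy =>
    comm_of_sq (sq x (h.sq _ hx)) (sq y (h.sq _ hy))
      (sq _ (h.sq _ (by rw [map_mul]; exact mul_mem hx hy)))
  have g3 : ∀ x, g * g * g * x = x * (g * g * g) := fun x => by
    rcases hk (g * g * g) (by rw [map_mul, map_mul, h.g3]) with e | e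
    · rw [e, one_mul, mul_one]
    · rw [e, hzc]
  have mg : ∀ x, π x ∈ V → π (g * x * g⁻¹) ∈ V := fun x hx => by
    rw [map_mul, map_mul, map_inv]; exact (h.nrm _ hx).1
  have gi : ∀ x, g⁻¹ * x * g = g * (g * x * g⁻¹) * g⁻¹ := fun x => by
    calc g⁻¹ * x * g = g⁻¹ * (x * (g * g * g)) * g⁻¹ * g⁻¹ := by group
      _ = _ := by rw [← g3]; group
  have mg' : ∀ x, π x ∈ V → π (g⁻¹ * x * g) ∈ V := fun x hx => by
    rw [gi]; exact mg _ (mg _ hx)
  let V₀ : Subgroup C :=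
    { carrier := {x | π x ∈ V ∧ x * (g * x * g⁻¹) * (g⁻¹ * x * g) = 1}
      one_mem' := ⟨by rw [map_one]; exact one_mem _, by simp⟩
      mul_mem' := fun {x y} hx hy => ⟨by rw [map_mul]; exact mul_mem hx.1 hy.1, by
        have e1 := cm y _ hy.1 (mg x hx.1)
        have e2 := cm y _ hy.1 (mg' x hx.1)
        have e3 := cm _ _ (mg y hy.1) (mg' x hx.1)
        calc _ = x * (y * (g * x * g⁻¹)) * ((g * y * g⁻¹) * (g⁻¹ * x * g)) * (g⁻¹ * y * g) := by
              group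
          _ = x * (g * x * g⁻¹) * (y * (g⁻¹ * x * g)) * (g * y * g⁻¹) * (g⁻¹ * y * g) := by
              rw [e1, e3]; group
          _ = (x * (g * x * g⁻¹) * (g⁻¹ * x * g)) * (y * (g * y * g⁻¹) * (g⁻¹ * y * g)) := by
              rw [e2]; group
          _ = 1 := by rw [hx.2, hy.2, one_mul]⟩
      inv_mem' := fun {x} hx => by
        rwa [inv_eq_of_mul_eq_one_right (sq x (h.sq _ hx.1))] }
  have zc : ∀ c x, c * z * x * (c * z)⁻¹ = c * x * c⁻¹ := fun c x => by
    rw [mul_inv_rev, mul_assoc c z, hzc]; group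
  have zV : z ∉ V₀ := fun hz0 => hz1 (by
    have := hz0.2
    rwa [← hzc, mul_inv_cancel_right, mul_assoc g⁻¹, hzc g, inv_mul_cancel_left, hz2,
      one_mul] at this)
  have cover : ∀ x, π x ∈ V → x ∈ V₀ ∨ x * z ∈ V₀ := fun x hx => by
    rcases hk (x * (g * x * g⁻¹) * (g⁻¹ * x * g)) (by
      simp only [map_mul, map_inv]; exact h.fpf _ hx) with e | e
    · exact .inl ⟨hx, e⟩
    refine .inr ⟨by rwa [map_mul, hz, mul_one], ?_⟩
    have e1 : g * (x * z) * g⁻¹ = g * x * g⁻¹ * z := by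
      rw [← hzc (g * x * g⁻¹), ← hzc x, ← mul_assoc, ← hzc g]; group
    have e2 : g⁻¹ * (x * z) * g = g⁻¹ * x * g * z := by rw [mul_assoc (g⁻¹ * x), ← hzc g]; group
    rw [e1, e2, mul_assoc x z, ← mul_assoc z, hzc, mul_assoc (g * x * g⁻¹) z, hz2, mul_one,
      ← mul_assoc, e, hz2]
  have nV : ∀ c, (∀ v ∈ V, π c * v * (π c)⁻¹ ∈ V) →
      ((π c)⁻¹ * π g * π c = π g ∨ (π c)⁻¹ * π g * π c = (π g)⁻¹) → c ∈ normalizer (V₀ : Set C) := by
    intro c h1 h2
    refine mem_normalizer_of_conj_mem fun x hx => ⟨by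
      rw [map_mul, map_mul, map_inv]; exact h1 _ hx.1, ?_⟩
    have e : ∀ g' : C, π (c⁻¹ * g * c) = π g' → (c⁻¹ * g * c) * x * (c⁻¹ * g * c)⁻¹ = g' * x * g'⁻¹ ∧
        (c⁻¹ * g * c)⁻¹ * x * (c⁻¹ * g * c) = g'⁻¹ * x * g' := by
      intro g' e
      rcases lift _ _ e with e | e
      · rw [e]; exact ⟨rfl, rfl⟩
      · rw [e, zc, mul_inv_rev, inv_eq_of_mul_eq_one_right hz2, hzc g'⁻¹, ← hzc g']
        refine ⟨rfl, ?_⟩
        rw [mul_assoc g'⁻¹ z, hzc x, mul_assoc, mul_assoc, ← mul_assoc z, hz2, one_mul, mul_assoc]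
    have e0 : c * x * c⁻¹ * (g * (c * x * c⁻¹) * g⁻¹) * (g⁻¹ * (c * x * c⁻¹) * g) =
        c * (x * ((c⁻¹ * g * c) * x * (c⁻¹ * g * c)⁻¹) * ((c⁻¹ * g * c)⁻¹ * x * (c⁻¹ * g * c))) *
          c⁻¹ := by group
    rw [e0]
    rcases h2 with h2 | h2
    · obtain ⟨e1, e2⟩ := e g (by simpa using h2)
      rw [e1, e2, hx.2]; simp
    · obtain ⟨e1, e2⟩ := e g⁻¹ (by simpa using h2)
      rw [e1, e2, inv_inv, mul_assoc x, cm _ _ (mg' x hx.1) (mg x hx.1), ← mul_assoc x, hx.2]; simp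
  have na := nV a (fun v hv => (h.nrm v hv).2.1) (.inr h.ag)
  have nb := nV b (fun v hv => (h.nrm v hv).2.2) (.inl h.bg)
  have a2 := sq a h.a2
  have b2 := sq b h.b2
  have ab4 : (a * b) ^ 4 = 1 := by
    have := sq ((a * b) ^ 2) (by rw [← map_mul, ← pow_add, map_pow, map_mul]; exact h.ab4)
    rwa [← pow_add] at this
  set D := zpowers (a * b) ⊔ zpowers a with hD
  have nD : D ≤ normalizer (V₀ : Set C) :=
    sup_le (zpowers_le.2 (mul_mem na nb)) (zpowers_le.2 na)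
  set D' := zpowers (π a * π b) ⊔ zpowers (π a) with hD'
  have nD' : D' ≤ normalizer (V : Set M) := by
    have k1 : π a ∈ normalizer (V : Set M) := mem_normalizer_of_conj_mem fun v hv => (h.nrm v hv).2.1
    have k2 : π b ∈ normalizer (V : Set M) := mem_normalizer_of_conj_mem fun v hv => (h.nrm v hv).2.2
    exact sup_le (zpowers_le.2 (mul_mem k1 k2)) (zpowers_le.2 k1)
  have cD' : Nat.card D' = 8 := by
    have o1 : orderOf (π a * π b) = 2 ^ 2 := orderOf_eq_prime_pow (n := 1)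
      (fun e => by simpa using (h.free 2 (by norm_num) 0 (by norm_num)
        (by rw [pow_one] at e; rw [e]; simpa using one_mem V)).1) h.ab4
    have o2 : orderOf (π a) = 2 := orderOf_eq_prime (by rw [pow_two, h.a2])
      (fun e => by simpa using (h.free 0 (by norm_num) 1 (by norm_num)
        (by rw [e]; simpa using one_mem V)).2)
    rw [hD', card_sup_of_disjoint (dih_norm h.a2 h.b2), Nat.card_zpowers, Nat.card_zpowers, o1, o2]
    · rfl
    rw [disjoint_def]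
    intro x h1 h2
    obtain ⟨i, hi, e1⟩ := pow_lt (by norm_num) h.ab4 h1
    obtain ⟨j, hj, e2⟩ := pow_lt (n := 2) (by norm_num) (by rw [pow_two, h.a2]) h2
    have := (h.free i hi j hj (by
      rw [← e1]
      nth_rewrite 1 [e2]
      rw [← pow_add, ← two_mul, pow_mul, pow_two, h.a2, one_pow]
      exact one_mem _)).1
    rw [e1, this, pow_zero]
  have dj : Disjoint V D' := by
    rw [disjoint_def]
    intro x h1 h2
    obtain ⟨i, hi, j, hj, rfl⟩ := dih_mem h.a2 h.b2 h.ab4 h2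
    obtain ⟨rfl, rfl⟩ := h.free i hi j hj h1
    simp
  have cP : Nat.card ↥(V ⊔ D') = 128 := by rw [card_sup_of_disjoint nD' dj, h.card, cD']
  have odd : ¬ 2 ∣ ((V ⊔ D').comap π).index := by
    obtain ⟨m, h1, h2⟩ := h.ord
    rw [index_comap_of_surjective _ hπ]
    have := (V ⊔ D').card_mul_index
    rw [cP, h1] at this
    rwa [Nat.eq_of_mul_eq_mul_left (by norm_num) this]
  have dec : ∀ c ∈ (V ⊔ D').comap π, c ∈ V₀ ⊔ D ∨ c * z ∈ V₀ ⊔ D := by
    intro c hc
    obtain ⟨v, hv, d, hd, e⟩ := (mem_sup_of_right_le_normalizer nD').1 hc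
    obtain ⟨i, -, j, -, rfl⟩ := dih_mem h.a2 h.b2 h.ab4 hd
    have k1 : (a * b) ^ i * a ^ j ∈ D :=
      mul_mem_sup (pow_mem (mem_zpowers _) _) (pow_mem (mem_zpowers _) _)
    have k2 : π (c * ((a * b) ^ i * a ^ j)⁻¹) ∈ V := by
      rw [map_mul, ← e, map_inv, map_mul, map_pow, map_pow, map_mul, mul_inv_cancel_right]
      exact hv
    refine (cover _ k2).imp (fun k => ?_) fun k => ?_
    · have := mul_mem_sup k k1
      rwa [inv_mul_cancel_right] at this
    · have := mul_mem_sup k k1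
      rwa [mul_assoc _ z, hzc, ← mul_assoc, inv_mul_cancel_right] at this
  have dec' : ∀ c ∈ (V ⊔ D').comap π, ∃ q ∈ V₀ ⊔ D, ∀ x, c * x * c⁻¹ = q * x * q⁻¹ := fun c hc =>
    (dec c hc).elim (fun k => ⟨c, k, fun _ => rfl⟩) fun k => ⟨c * z, k, fun x => (zc c x).symm⟩
  have key := pow_index_mem hzc hz' ((V ⊔ D').comap π) (N := V₀ ⊔ D)
    (fun c hc => mem_normalizer_of_conj_mem fun x hx => by
      obtain ⟨q, hq, e⟩ := dec' c hc
      rw [e]; exact mul_mem (mul_mem hq hx) (inv_mem hq))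
    (fun c hc d hd => by
      obtain ⟨q, hq, e⟩ := dec' c hc
      obtain ⟨r, hr, e'⟩ := dec' d hd
      have : c * d * c⁻¹ * d⁻¹ = q * (r * q⁻¹ * r⁻¹) := by rw [e, ← e']; group
      rw [this]
      exact mul_mem hq (mul_mem (mul_mem hr (inv_mem hq)) (inv_mem hr)))
  obtain ⟨k, hk'⟩ : Odd ((V ⊔ D').comap π).index := Nat.odd_iff.2 (Nat.two_dvd_ne_zero.1 odd)
  rw [hk', pow_succ, pow_mul, pow_two, hz2, one_pow, one_mul] at key
  obtain ⟨v, hv, d, hd, e⟩ := (mem_sup_of_right_le_normalizer nD).1 key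
  obtain ⟨i, hi, j, hj, rfl⟩ := dih_mem a2 b2 ab4 hd
  have k1 : (π a * π b) ^ i * π a ^ j ∈ V := by
    have := congrArg π e
    rw [hz, map_mul, map_mul, map_pow, map_pow, map_mul] at this
    rw [eq_inv_of_mul_eq_one_right this]
    exact inv_mem hv.1
  obtain ⟨rfl, rfl⟩ := h.free i hi j hj k1
  exact zV (by simpa [← e] using hv)

theorem exists_index_two {A : Type*} [CommGroup A] [Finite A] {z : A} (h1 : z ≠ 1) (h2 : z * z = 1) :
    ∃ T : Subgroup A, ∃ w, w ∉ T ∧ ∀ c, c ∈ T ∨ c⁻¹ * w ∈ T := by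
  have hS : (powMonoidHom 2 : A →* A).range ≠ ⊤ := fun e => h1 (by
    have := Finite.injective_iff_surjective.2 (MonoidHom.range_eq_top.1 e)
    exact (injective_iff_map_eq_one _).1 this z (by rw [powMonoidHom_apply, pow_two, h2]))
  obtain ⟨w, hw⟩ : ∃ w, w ∉ (powMonoidHom 2 : A →* A).range := by
    by_contra h
    push Not at h
    exact hS (eq_top_iff.2 fun w _ => h w)
  haveI : NeZero ((Monoid.exponent (A ⧸ (powMonoidHom 2 : A →* A).range) : ℕ) : ℂ) :=
    ⟨by exact_mod_cast Monoid.exponent_ne_zero_of_finite⟩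
  obtain ⟨φ, hφ⟩ := CommGroup.exists_apply_ne_one_of_hasEnoughRootsOfUnity
    (A ⧸ (powMonoidHom 2 : A →* A).range) ℂ (a := QuotientGroup.mk w)
    (fun e => hw ((QuotientGroup.eq_one_iff w).1 e))
  let ψ := φ.comp (QuotientGroup.mk' _)
  have sq : ∀ e, ψ e = 1 ∨ ψ e = -1 := fun e => by
    have : ψ e * ψ e = 1 := by
      rw [← map_mul, MonoidHom.comp_apply, QuotientGroup.mk'_apply,
        (QuotientGroup.eq_one_iff _).2 (MonoidHom.mem_range.2 ⟨e, by rw [powMonoidHom_apply, pow_two]⟩),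
        map_one]
    have h : ((ψ e : ℂˣ) : ℂ) * ψ e = 1 := by rw [← Units.val_mul, this, Units.val_one]
    rcases mul_self_eq_one_iff.1 h with h | h
    · exact .inl (Units.ext h)
    · exact .inr (Units.ext h)
  refine ⟨ψ.ker, w, hφ, fun c => (sq c).imp id fun e => ?_⟩
  rw [MonoidHom.mem_ker, map_mul, map_inv, e, (sq w).resolve_left hφ, inv_mul_cancel]

theorem no_two (π : C →* M) (hπ : Function.Surjective π) (hM : commutator M = ⊤)
    (hk : ∀ z, π z = 1 → ∀ g, z * g = g * z) {z : C} (hz1 : z ≠ 1) (hz2 : z * z = 1) (hz : π z = 1)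
    (hz' : z ∈ commutator C) {V : Subgroup M} {u₁ u₂ u₃ g a b : M}
    (h : Data2 V u₁ u₂ u₃ g a b) : False := by
  set L := commutator C with hL
  let τ : L →* M := π.comp L.subtype
  have hτ : Function.Surjective τ := fun m => by
    have h3 : L.map π = ⊤ := by rw [hL, map_commutator_eq, MonoidHom.range_eq_top.2 hπ]; exact hM
    obtain ⟨c, hc, e⟩ := h3.ge (mem_top m)
    exact ⟨⟨c, hc⟩, e⟩
  have hp : commutator L = ⊤ := by
    have h1 : L ≤ (commutator L).map L.subtype := by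
      refine commutator_le.2 fun x _ y _ => ?_
      obtain ⟨x', hx⟩ := hτ (π x)
      obtain ⟨y', hy⟩ := hτ (π y)
      have e1 := hk (x'.1⁻¹ * x) (by rw [map_mul, map_inv, ← hx]; exact inv_mul_cancel _)
      have e2 := hk (y'.1⁻¹ * y) (by rw [map_mul, map_inv, ← hy]; exact inv_mul_cancel _)
      refine ⟨x' * y' * x'⁻¹ * y'⁻¹, commutator_mem_commutator (mem_top _) (mem_top _), ?_⟩
      change x'.1 * y'.1 * x'.1⁻¹ * y'.1⁻¹ = x * y * x⁻¹ * y⁻¹
      have k1 : x * y * x⁻¹ = x'.1 * y * x'.1⁻¹ := by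
        calc x * y * x⁻¹ = x'.1 * ((x'.1⁻¹ * x) * y) * x⁻¹ := by group
          _ = _ := by rw [e1]; group
      have k2 : y * x'.1⁻¹ * y⁻¹ = y'.1 * x'.1⁻¹ * y'.1⁻¹ := by
        calc y * x'.1⁻¹ * y⁻¹ = y'.1 * ((y'.1⁻¹ * y) * x'.1⁻¹) * y⁻¹ := by group
          _ = _ := by rw [e2]; group
      rw [k1, mul_assoc x'.1, mul_assoc x'.1, mul_assoc x'.1, mul_assoc x'.1, k2]
    rw [eq_top_iff]
    intro x _
    obtain ⟨y, hy, e⟩ := h1 x.2
    rwa [← Subtype.ext e]
  have hc : ∀ c : L, c ∈ τ.ker → ∀ d, c * d = d * c := fun c hc d => Subtype.ext (hk c hc d)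
  letI : CommGroup τ.ker := { (inferInstance : Group τ.ker) with
    mul_comm := fun a b => Subtype.ext (hc a a.2 b) }
  obtain ⟨T, w, hw, hT⟩ := exists_index_two (A := τ.ker) (z := ⟨⟨z, hz'⟩, hz⟩)
    (fun e => hz1 (congrArg (fun x : τ.ker => (x.1 : C)) e)) (Subtype.ext (Subtype.ext hz2))
  let T' := T.map τ.ker.subtype
  haveI : T'.Normal := ⟨fun n hn d => by
    rwa [← hc n (map_subtype_le _ hn), mul_inv_cancel_right]⟩
  let σ : L ⧸ T' →* M := QuotientGroup.lift T' τ (map_subtype_le _)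
  refine core2 σ (fun m => (hτ m).elim fun c e => ⟨c, e⟩) (z := (w.1 : L ⧸ T')) (fun e => ?_) w.2
    (fun c => ?_) (fun c hc' => ?_) ?_ h
  · obtain ⟨w', h1, h2⟩ := (QuotientGroup.eq_one_iff _).1 e
    exact hw (by rwa [← Subtype.ext h2])
  · obtain ⟨c, rfl⟩ := QuotientGroup.mk_surjective c
    rw [← QuotientGroup.mk_mul, ← QuotientGroup.mk_mul, hc _ w.2]
  · obtain ⟨c, rfl⟩ := QuotientGroup.mk_surjective c
    exact (hT ⟨c, hc'⟩).imp (fun e => (QuotientGroup.eq_one_iff _).2 ⟨_, e, rfl⟩)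
      fun e => QuotientGroup.eq.2 ⟨_, e, rfl⟩
  · have : commutator (L ⧸ T') = ⊤ := by
      have := map_commutator_eq L (QuotientGroup.mk' T')
      rw [hp, MonoidHom.range_eq_top.2 (QuotientGroup.mk'_surjective T'),
        map_top_of_surjective _ (QuotientGroup.mk'_surjective T')] at this
      exact this.symm
    rw [this]; exact mem_top _

theorem no_three (π : C →* M) (hπ : Function.Surjective π)
    (hk : ∀ z, π z = 1 → ∀ g, z * g = g * z) {z : C} (hzp : z ^ 3 = 1) (hz2 : π z = 1)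
    (hz1 : z ∈ commutator C) {eu ev et : M} {m : ℕ} (hM : Nat.card M = 3 ^ (1 + 1) * m)
    (hm : ¬ 3 ∣ m) (u1 : eu ≠ 1) (u3 : eu ^ 3 = 1) (v1 : ev ≠ 1) (r2 : ev ^ 3 = 1)
    (r1 : ev * eu * ev⁻¹ = eu ^ 1) (r3 : et * eu * et⁻¹ = eu) (r4 : et * ev * et⁻¹ = ev⁻¹)
    (r5 : ∀ i < 3, ev ≠ eu ^ i) : z = 1 := by
  haveI : Fact (Nat.Prime 3) := ⟨Nat.prime_three⟩
  have ord_u : orderOf eu = 3 := orderOf_eq_prime u3 u1
  obtain ⟨x, hx⟩ := hπ eu
  obtain ⟨y, hy⟩ := hπ ev
  obtain ⟨t, ht⟩ := hπ et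
  obtain ⟨c, hc⟩ : ∃ c, y * x * y⁻¹ = c * x := ⟨y * x * y⁻¹ * x⁻¹, by group⟩
  obtain ⟨a, ha⟩ : ∃ a, t * x * t⁻¹ = a * x := ⟨t * x * t⁻¹ * x⁻¹, by group⟩
  obtain ⟨b, hb⟩ : ∃ b, t * y * t⁻¹ = b * y⁻¹ := ⟨t * y * t⁻¹ * y, by group⟩
  have hc1 : π c = 1 := by
    have := congrArg π hc
    simp only [map_mul, map_inv, hx, hy, r1, pow_one] at this
    exact mul_eq_right.1 this.symm
  have ha1 : π a = 1 := by
    have := congrArg π ha
    simp only [map_mul, map_inv, hx, ht, r3] at this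
    exact mul_eq_right.1 this.symm
  have hb1 : π b = 1 := by
    have := congrArg π hb
    simp only [map_mul, map_inv, hy, ht, r4] at this
    exact mul_eq_right.1 this.symm
  have e3 : c ^ 3 = 1 := by
    have h1 := hk (x ^ 3) (by rw [map_pow, hx, u3]) y
    have h2 : (y * x * y⁻¹) ^ 3 = x ^ 3 := by rw [conj_pow, ← h1, mul_inv_cancel_right]
    rw [hc, (show Commute c x from hk c hc1 x).mul_pow] at h2
    exact mul_eq_right.1 h2
  have e2 : c ^ 2 = 1 := by
    have h1 : (t * y * t⁻¹) * (t * x * t⁻¹) * (t * y * t⁻¹)⁻¹ = c * (t * x * t⁻¹) := by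
      calc _ = t * (y * x * y⁻¹) * t⁻¹ := by group
        _ = _ := by rw [hc, ← mul_assoc, ← hk c hc1 t]; group
    rw [ha, hb] at h1
    have h2 : b * y⁻¹ * (a * x) * (b * y⁻¹)⁻¹ = a * (y⁻¹ * x * y) := by
      rw [show b * y⁻¹ * (a * x) * (b * y⁻¹)⁻¹ = b * (y⁻¹ * a * x * y) * b⁻¹ by group, hk b hb1,
        mul_inv_cancel_right, ← hk a ha1]
      group
    have h3 : y⁻¹ * x * y = c * x := by
      rw [h2, ← mul_assoc c, ← hk a ha1 c, mul_assoc a c] at h1
      exact mul_left_cancel h1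
    have h4 : x = c * (c * x) := by
      calc x = y * (y⁻¹ * x * y) * y⁻¹ := by group
        _ = c * (y * x * y⁻¹) := by rw [h3, ← mul_assoc, ← hk c hc1 y]; group
        _ = _ := by rw [hc]
    rw [← mul_assoc] at h4
    rw [sq]; exact mul_eq_right.1 h4.symm
  have e1 : c = 1 := by rw [pow_succ, e2, one_mul] at e3; exact e3
  have h1 := zpowers_le_norm 1 r1
  exact mem_bot.1 (mem_of_lifts π hπ hk Nat.prime_three (x := x) (y := y) (by rwa [hx, hy]) (by
      rw [hx, hy]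
      refine index_ndvd (a := 1) (m := m) Nat.prime_three hM hm ord_u
        (orderOf_eq_prime r2 v1) (fun h => ?_) h1
      obtain ⟨i, hi, e⟩ := exists_pow_lt ord_u h
      exact r5 i hi e) (N := ⊥) (le_normalizer_of_normal (mem_top _))
        (le_normalizer_of_normal (mem_top _)) (by rw [hc, e1]; simp) hz2 hz1 hzp)

end abstract

open Cfsg.Agent.Mat

/-- elements of the model of `M23` from codes -/
def lst23 (l : List ℕ) (h : l.all (valid 24) = true) (h' : (cpL 24 l h).all (fun c => in23 c.1) = true) :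
    List (cl ms23) :=
  (cpL 24 l h).pmap (fun c hc => ⟨c, cl23_eq ▸ in23_spec c hc⟩) (List.all_eq_true.mp h')

/-- an elementary abelian subgroup of order 16 -/
def LV : List (cl ms23) := lst23 [0x17161514131211100f0e0d0c0b0a09080706050403020100,
  0x1704130f1508110d140e100b0c090a120607051603020100,
  0x1716130a150b051009030d0812140f0c060711040e020100,
  0x170d150a13080e040911160b0c140f120706031005020100,
  0x1710150f130b03161405040812090a0c07060e0d11020100,
  0x17160709060803100a050d0b0c0f141215130e0411020100,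
  0x170d1314150c03040f051612080a090b06070e1011020100,
  0x1710070a060c1116090e041208140f0b1513050d03020100,
  0x17040714060b0e0d0f111008120a090c1513031605020100,
  0x170d070f061205041403160c0b090a08151311100e020100,
  0x1710130915120e160a11040c0b0f14080607030d05020100,
  0x1716060f070c0e1014110d1208090a0b1315030405020100,
  0x1704060a0712030d0905100c0b140f0813150e1611020100,
  0x170d0609070b11040a0e1608120f140c1315051003020100,
  0x17100614070805160f03040b0c0a09121315110d0e020100,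
  0x17041509130c050d0a031012080f140b070611160e020100] (by decide +kernel) (by decide +kernel)

/-- further elements -/
def LW : List (cl ms23) := lst23 [0x1716130f07080e040a0510120b14090c1506110d03010002,
  0x17090704130c050f100e0a120b0d16081506111403020001,
  0x17030f070a120405150d0e0c0b1306081409101116020100,
  0x170b1310070f050c04110814090d160a15060e1203020100,
  0x170b110a0e1013081407120d160f09040503150c06000201] (by decide +kernel) (by decide +kernel)

theorem LV_mul : ∀ x ∈ LV, ∀ y ∈ LV, x * y ∈ LV := by decide +kernel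

theorem LV_sq : ∀ x ∈ LV, x * x = 1 := by decide +kernel

theorem LV_inv : ∀ x ∈ LV, x⁻¹ ∈ LV := by decide +kernel

/-- the subgroup -/
def V23 : Subgroup (cl ms23) where
  carrier := {x | x ∈ LV}
  one_mem' := (by decide +kernel : (1 : cl ms23) ∈ LV)
  mul_mem' := fun hx hy => LV_mul _ hx _ hy
  inv_mem' := fun hx => LV_inv _ hx

theorem card_V23 : Nat.card V23 = 16 := by
  have h : LV.Nodup := by decide +kernel
  refine (Nat.subtype_card LV.toFinset fun x => List.mem_toFinset).trans ?_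
  rw [List.toFinset_card_of_nodup h]
  decide +kernel

theorem data23 : Data2 V23 (LV.getD 1 1) (LV.getD 2 1) (LV.getD 3 1) (LW.getD 0 1) (LW.getD 1 1)
    (LW.getD 2 1) where
  conj := fun _ _ hs ht => (n23_of_nse card_cl23 nse23).conj2 hs ht
  sq := LV_sq
  card := card_V23
  mem := (by decide +kernel : LV.getD 1 1 ∈ LV ∧ LV.getD 2 1 ∈ LV ∧ LV.getD 3 1 ∈ LV)
  ne := by decide +kernel
  g3 := by decide +kernel
  nrm := (by decide +kernel : ∀ v ∈ LV, LW.getD 0 1 * v * (LW.getD 0 1)⁻¹ ∈ LV ∧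
    LW.getD 1 1 * v * (LW.getD 1 1)⁻¹ ∈ LV ∧ LW.getD 2 1 * v * (LW.getD 2 1)⁻¹ ∈ LV)
  fpf := (by decide +kernel : ∀ v ∈ LV, v * (LW.getD 0 1 * v * (LW.getD 0 1)⁻¹) *
    ((LW.getD 0 1)⁻¹ * v * LW.getD 0 1) = 1)
  a2 := by decide +kernel
  b2 := by decide +kernel
  ab4 := by decide +kernel
  ag := by decide +kernel
  bg := by decide +kernel
  free := (by decide +kernel : ∀ i < 4, ∀ j < 2,
    (LW.getD 1 1 * LW.getD 2 1) ^ i * LW.getD 1 1 ^ j ∈ LV → i = 0 ∧ j = 0)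
  ord := ⟨79695, by rw [card_cl23], by decide⟩

theorem cover23 {C : Type*} [Group C] [Finite C] (π : C →* cl ms23) (hπ : Function.Surjective π)
    (hM : commutator (cl ms23) = ⊤) (hk : ∀ z, π z = 1 → ∀ g, z * g = g * z)
    (hc : Nat.card π.ker ∣ 24) : commutator C ⊓ π.ker = ⊥ := by
  by_contra hne
  obtain ⟨p, hp, hd⟩ := Nat.exists_prime_and_dvd (mt card_eq_one.1 hne)
  have := Fact.mk hp
  obtain ⟨⟨z, hz'⟩, hz⟩ := exists_prime_orderOf_dvd_card' p hd
  rw [orderOf_mk] at hz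
  obtain ⟨hz1, hz2⟩ := mem_inf.1 hz'
  have hz0 : z ≠ 1 := fun e => hp.ne_one (by rw [← hz, e, orderOf_one])
  have hzp : z ^ p = 1 := hz ▸ pow_orderOf_eq_one z
  have h23 : p = 2 ∨ p = 3 := by
    have h := (hd.trans (card_dvd_of_le inf_le_right)).trans hc
    have := Nat.le_of_dvd (by decide) h
    interval_cases p <;> simp_all (config := {decide := true})
  rcases h23 with rfl | rfl
  · exact no_two π hπ hM hk hz0 (by rwa [← pow_two]) hz2 hz1 data23
  · exact hz0 (no_three π hπ hk hzp hz2 hz1 (eu := LW.getD 0 1) (ev := LW.getD 3 1)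
      (et := LW.getD 4 1) (m := 1133440) (by rw [card_cl23]; norm_num) (by decide)
      (by decide +kernel) (by decide +kernel) (by decide +kernel) (by decide +kernel)
      (by decide +kernel) (by decide +kernel) (by decide +kernel) (by decide +kernel))

end Cfsg.Agent.MR
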