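import Cfsg.Agent.MR.Red
import Cfsg.Agent.MR.Cover
import Cfsg.Agent.Mat.M22F
import Cfsg.Agent.Mat.M24K
import Cfsg.Agent.Small.Uniq

/-!
# Groups with the order and degree graph of a Mathieu group: reduction to simple groups
-/

set_option autoImplicit false

namespace Cfsg.Agent.MR

open Subgroup Cfsg.Agent.Local Cfsg.Agent.M11 Cfsg.Agent.Char Cfsg.Agent.Zass
  Cfsg.Agent.Small Cfsg.Agent.M12R Cfsg.Agent.Mat

universe u

/-- The facts on simple groups that the reduction needs. -/
structure Hyp : Prop where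
  t2 : ∀ (S : Type u) [Group S] [Finite S] [IsSimpleGroup S], ¬ IsMulCommutative S →
    Nat.card S ∣ 443520 → 11 ∣ Nat.card S →
    (5 ∣ Nat.card S ∧ Nat.card S < 3025) ∨ Nat.card S = 7920 ∨ Nat.card S = 443520
  t1 : ∀ (S : Type u) [Group S] [Finite S] [IsSimpleGroup S], ¬ IsMulCommutative S →
    Nat.card S ∣ 244823040 → 23 ∣ Nat.card S →
    (11 ∣ Nat.card S ∧ Nat.card S < 64009) ∨ Nat.card S = 10200960 ∨ Nat.card S = 244823040
  i22 : ∀ (S : Type u) [Group S] [Finite S] [IsSimpleGroup S], Nat.card S = 443520 →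
    N22 S ∧ Rho S 55 ∧ Rho S 77 ∧ Rho S 33
  i23 : ∀ (S : Type u) [Group S] [Finite S] [IsSimpleGroup S], Nat.card S = 10200960 →
    N23 S ∧ Rho S 253 ∧ ¬ Rho S 161
  i24 : ∀ (S : Type u) [Group S] [Finite S] [IsSimpleGroup S], Nat.card S = 244823040 →
    N24 S ∧ Rho S 253 ∧ Rho S 161

variable {G : Type u} [Group G] [Finite G]

theorem rho55 [IsSimpleGroup G] (hG : Nat.card G = 7920) : Rho G 55 := by
  classical
  have hna := Wong.not_comm (G := G) (by rw [hG]; norm_num)
  obtain ⟨_, _, x, T, h1, e1⟩ := exists_surv hna hG (by norm_num) (by norm_num) k7920a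
  obtain ⟨_, _, y, U, h2, e2⟩ := exists_surv hna hG (by norm_num) (by norm_num) k7920b
  cases List.mem_singleton.1 e1
  cases List.mem_singleton.1 e2
  obtain ⟨D, d1, d2⟩ := h1.st1 [[5, 5, 10, 10, 12, 12], [10, 10, 10, 16, 16, 45]]
    (by rw [hG]; decide +kernel)
  obtain ⟨D', d3, d4⟩ := h2.st1 [[4, 4, 4, 11], [4, 4, 9, 16], [4, 6, 6, 9], [4, 9, 24, 36],
    [4, 11, 16, 24], [4, 11, 36, 44], [6, 6, 11, 24], [6, 9, 9, 11], [9, 16, 16, 24], [9, 16, 36, 44],
    [11, 16, 16, 44], [11, 24, 24, 36]] (by rw [hG]; decide +kernel)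
  have k1 := sum_of_map d2 (fun d => d * d)
  have k2 := sum_of_map d4 (fun d => d * d)
  have k3 : (D.map fun d => d * d).sum ≤ 2837 := by
    clear d2 k1; revert D; decide
  have k4 : (D'.map fun d => d * d).sum ≤ 3569 := by
    clear d4 k2; revert D'; decide
  by_contra hn
  have := Fintype.ofFinite (IrrCharacter G)
  have k5 := sum_deg (G := G)
  let o : IrrCharacter G := ⟨1, irr_one⟩
  have k6 : (Finset.univ : Finset (IrrCharacter G)) ⊆ {o} ∪ (T ∪ U) := fun χ _ => by
    simp only [Finset.mem_union, Finset.mem_singleton]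
    by_cases h : χ.1 = 1
    · exact .inl (Subtype.ext h)
    by_cases h11 : 11 ∣ deg χ.1
    · exact .inr (.inr (h2.mem rfl χ h fun h5 =>
        hn ⟨χ.1, χ.2, Nat.Coprime.mul_dvd_of_dvd_of_dvd (by norm_num) h5 h11⟩))
    · exact .inr (.inl (h1.mem rfl χ h h11))
  have k7 := Finset.sum_le_sum_of_subset (f := fun χ : IrrCharacter G => deg χ.1 * deg χ.1) k6
  have k8 := Finset.sum_union_inter (s₁ := {o}) (s₂ := T ∪ U)
    (f := fun χ : IrrCharacter G => deg χ.1 * deg χ.1)
  have k9 := Finset.sum_union_inter (s₁ := T) (s₂ := U)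
    (f := fun χ : IrrCharacter G => deg χ.1 * deg χ.1)
  rw [Finset.sum_singleton] at k8
  have k10 : deg o.1 = 1 := deg_one
  rw [k10] at k8
  have k11 : ∑ χ : IrrCharacter G, deg χ.1 * deg χ.1 = 7920 := by
    rw [← hG, ← k5]
    congr
    exact Subsingleton.elim _ _
  omega

theorem equiv_of_card {H : Subgroup G} {S : Type*} [Group S] [Finite S] (π : H →* S)
    (hπ : Function.Surjective π) (h : Nat.card S = Nat.card G) : Nonempty (G ≃* S) := by
  have h1 : H = ⊤ := eq_top_of_card_eq _ (Nat.dvd_antisymm (card_subgroup_dvd_card H)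
    (h ▸ card_dvd_of_surjective π hπ))
  subst h1
  exact ⟨topEquiv.symm.trans (MulEquiv.ofBijective π
    (hπ.bijective_of_nat_card_le (by rw [card_top, h])))⟩

theorem small {H : Subgroup G} [H.Normal] {S : Type*} [Group S] [Finite S] (π : H →* S)
    (hπ : Function.Surjective π) (hC : (centralizer (π.ker : Set H)).map π = ⊤) {p q : ℕ}
    (hp : p.Prime) (hq : q.Prime) (hpq : p ≠ q) (h1 : ¬ p * p ∣ Nat.card G)
    (h2 : ¬ q * q ∣ Nat.card G) (h3 : p ∣ Nat.card S) (h4 : q ∣ Nat.card S) (h : Rho G (p * q)) :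
    p * q * (p * q) ≤ Nat.card S :=
  sq_le π hπ hC hp hq hpq (fun e => h1 (e.trans (card_subgroup_dvd_card H)))
    (fun e => h2 (e.trans (card_subgroup_dvd_card H))) h3 h4
    (down2 H hp hq hpq h1 h2 (h3.trans (card_dvd_of_surjective π hπ))
      (h4.trans (card_dvd_of_surjective π hπ)) h)

theorem rho_right {R S : Type*} [Group R] [Finite R] [Group S] [Finite S] {d : ℕ}
    (hd : d.Coprime (Nat.card R)) (h : Rho (R × S) d) : Rho S d := by
  obtain ⟨χ, hχ, h1⟩ := h
  obtain ⟨φ, ψ, h2, h3, h4⟩ := rho_prod hχ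
  exact ⟨ψ, h3, (hd.coprime_dvd_right (deg_dvd_card h2)).dvd_of_dvd_mul_left (h4 ▸ h1)⟩

theorem center56 {R : Type*} [Group R] [Finite R] (hR : Nat.card R = 56) (h : Rho R 7) :
    center R = ⊥ := by
  haveI : Fact (Nat.Prime 7) := ⟨by norm_num⟩
  obtain ⟨P⟩ : Nonempty (Sylow 7 R) := inferInstance
  have h1 : Nat.card P = 7 ^ 1 := card_sylow_eq P 1 8 hR (by norm_num)
  have h2 : ¬ (P : Subgroup R).Normal := fun hn => by
    have := h.eq_bot (p := 7) (B := 8) (by norm_num) hR (by norm_num) P.isPGroup'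
    rw [this, card_bot] at h1
    omega
  have h3 := card_normalizer_mul P
  have h4 := card_sylow_modEq_one 7 R
  have h5 : Nat.card (Sylow 7 R) ≠ 1 := fun e => h2 (by
    rw [e, mul_one] at h3
    exact normalizer_eq_top_iff.1 (eq_top_of_card_eq _ h3))
  have h6 : 7 ∣ Nat.card (normalizer ((P : Subgroup R) : Set R)) :=
    (show 7 ∣ Nat.card P by rw [h1]; norm_num).trans (card_dvd_of_le le_normalizer)
  have h7 : Nat.card (normalizer ((P : Subgroup R) : Set R)) = 7 := by
    obtain ⟨k, hk⟩ := h6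
    rw [hk, hR] at h3
    rw [Nat.ModEq] at h4
    generalize Nat.card (Sylow 7 R) = n at *
    have : k * n = 8 := by nlinarith
    have hk8 : k ≤ 8 := Nat.le_of_dvd (by norm_num) ⟨n, this.symm⟩
    rw [hk]
    interval_cases k <;> omega
  have h8 : center R ≤ P := by
    rw [eq_of_le_of_card_ge (le_normalizer (H := (P : Subgroup R))) (by rw [h7, h1]; rfl)]
    exact center_le_normalizer _
  by_contra h9
  have h10 : Nat.card (center R) ∣ 7 := (card_dvd_of_le h8).trans (by rw [h1]; rfl)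
  have h11 : center R = P := eq_of_le_of_card_ge h8 (by
    rw [h1, ((Nat.dvd_prime (by norm_num)).1 h10).resolve_left (mt card_eq_one.1 h9)]; rfl)
  exact h2 (h11 ▸ inferInstance)

theorem perfect_congr [IsSimpleGroup G] (hna : ¬ IsMulCommutative G) {T : Type*} [Group T]
    (e : G ≃* T) : commutator T = ⊤ := by
  have := map_commutator_eq G e.toMonoidHom
  rw [perfect hna, MonoidHom.range_eq_top.2 e.surjective,
    map_top_of_surjective _ e.surjective] at this
  exact this.symm

theorem case11 (H : Hyp.{u}) (hG : Nat.card G = 7920) (h : Rho G 55) : IsSimpleGroup G := by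
  obtain ⟨K, _, S, _, _, π, hπ, hs, hna, hp, hC, -⟩ := comp (p := 11) (by norm_num)
    (by rw [hG]; norm_num) (by rw [hG]; norm_num) (noOne11.of_dvd (by rw [hG]; norm_num))
    (h.imp fun χ h => ⟨h.1, Dvd.dvd.trans (by norm_num) h.2⟩)
  have hd := (card_dvd_of_surjective π hπ).trans (card_subgroup_dvd_card K)
  rw [hG] at hd
  rcases H.t2 S hna (hd.trans (by norm_num)) hp with h1 | h1 | h1
  · have := small π hπ hC (p := 5) (q := 11) (by norm_num) (by norm_num) (by norm_num)
      (by rw [hG]; norm_num) (by rw [hG]; norm_num) h1.1 hp h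
    omega
  · obtain ⟨e⟩ := equiv_of_card π hπ (h1.trans hG.symm)
    exact e.isSimpleGroup
  · rw [h1] at hd; norm_num at hd

theorem case22 (H : Hyp.{u}) (hG : Nat.card G = 443520) (h55 : Rho G 55) (h77 : Rho G 77)
    (h33 : Rho G 33) : IsSimpleGroup G := by
  obtain ⟨K, _, S, _, _, π, hπ, hs, hna, hp, hC, ho⟩ := comp (p := 11) (by norm_num)
    (by rw [hG]; norm_num) (by rw [hG]; norm_num) (hG ▸ noOne11)
    (h55.imp fun χ h => ⟨h.1, Dvd.dvd.trans (by norm_num) h.2⟩)
  have hd := (card_dvd_of_surjective π hπ).trans (card_subgroup_dvd_card K)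
  rw [hG] at hd
  rcases H.t2 S hna hd hp with h1 | h1 | h1
  · have := small π hπ hC (p := 5) (q := 11) (by norm_num) (by norm_num) (by norm_num)
      (by rw [hG]; norm_num) (by rw [hG]; norm_num) h1.1 hp h55
    omega
  · exfalso
    obtain ⟨e⟩ := M12R.m11 h1
    have hK : K = ⊤ := ho fun φ => by
      obtain ⟨g, hg⟩ := outMx (e.symm.trans (φ.trans e))
      refine ⟨e.symm g, MulEquiv.ext fun s => e.injective ?_⟩
      simpa using DFunLike.congr_fun hg (e s)
    subst hK
    have hc : Nat.card (⊤ : Subgroup G) = 443520 := by rw [card_top, hG]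
    have hR : Nat.card π.ker = 56 := by
      have := card_ker π hπ
      rw [h1, hc] at this
      omega
    obtain ⟨χ, hχ, h7⟩ := h77.of_surj (⊤ : Subgroup G).subtype fun g => ⟨⟨g, trivial⟩, rfl⟩
    obtain ⟨θ, hθ, h8⟩ := down π.ker hχ
    have hZ := center56 hR ⟨θ, hθ, h8 7 (by norm_num) (by rw [hc]; norm_num)
      (Dvd.dvd.trans (by norm_num) h7) (by rw [hR]; norm_num)⟩
    obtain ⟨f⟩ := split_of hna π hπ hC (by
      rw [eq_bot_iff]
      intro z hz
      have h9 : (⟨z.1, hz.2⟩ : π.ker) ∈ center π.ker := mem_center_iff.2 fun r =>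
        Subtype.ext (mem_centralizer_iff.1 z.2 r r.2)
      rw [hZ, mem_bot] at h9
      exact Subtype.ext (congrArg (fun x : π.ker => x.1) h9))
    exact (data11 h1).2.2.1 (rho_right (by rw [hR]; norm_num)
      ((h33.of_surj (⊤ : Subgroup G).subtype fun g => ⟨⟨g, trivial⟩, rfl⟩).of_surj f.symm.toMonoidHom
        f.symm.surjective))
  · obtain ⟨e⟩ := equiv_of_card π hπ (h1.trans hG.symm)
    exact e.isSimpleGroup

theorem case23 (H : Hyp.{u}) (hG : Nat.card G = 10200960) (h : Rho G 253) : IsSimpleGroup G := by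
  obtain ⟨K, _, S, _, _, π, hπ, hs, hna, hp, hC, -⟩ := comp (p := 23) (by norm_num)
    (by rw [hG]; norm_num) (by rw [hG]; norm_num) (noOne23.of_dvd (by rw [hG]; norm_num))
    (h.imp fun χ h => ⟨h.1, Dvd.dvd.trans (by norm_num) h.2⟩)
  have hd := (card_dvd_of_surjective π hπ).trans (card_subgroup_dvd_card K)
  rw [hG] at hd
  rcases H.t1 S hna (hd.trans (by norm_num)) hp with h1 | h1 | h1
  · have := small π hπ hC (p := 11) (q := 23) (by norm_num) (by norm_num) (by norm_num)
      (by rw [hG]; norm_num) (by rw [hG]; norm_num) h1.1 hp h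
    omega
  · obtain ⟨e⟩ := equiv_of_card π hπ (h1.trans hG.symm)
    exact e.isSimpleGroup
  · rw [h1] at hd; norm_num at hd

theorem case24 (H : Hyp.{u}) (hG : Nat.card G = 244823040) (h : Rho G 253) (h' : Rho G 161) :
    IsSimpleGroup G := by
  obtain ⟨K, _, S, _, _, π, hπ, hs, hna, hp, hC, -⟩ := comp (p := 23) (by norm_num)
    (by rw [hG]; norm_num) (by rw [hG]; norm_num) (hG ▸ noOne23)
    (h.imp fun χ h => ⟨h.1, Dvd.dvd.trans (by norm_num) h.2⟩)
  have hd := (card_dvd_of_surjective π hπ).trans (card_subgroup_dvd_card K)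
  rw [hG] at hd
  rcases H.t1 S hna hd hp with h1 | h1 | h1
  · have := small π hπ hC (p := 11) (q := 23) (by norm_num) (by norm_num) (by norm_num)
      (by rw [hG]; norm_num) (by rw [hG]; norm_num) h1.1 hp h
    omega
  · exfalso
    obtain ⟨h2, -, h3⟩ := H.i23 S h1
    obtain ⟨e⟩ := h2.nonempty_equiv
    have hK := card_subgroup_dvd_card K
    have hR : Nat.card π.ker ∣ 24 := by
      rw [← card_ker π hπ, h1, hG] at hK
      exact Nat.dvd_of_mul_dvd_mul_left (by norm_num) hK
    have h4 := down2 K (p := 7) (q := 23) (by norm_num) (by norm_num) (by norm_num)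
      (by rw [hG]; norm_num) (by rw [hG]; norm_num)
      (Dvd.dvd.trans (by rw [h1]; norm_num) (card_dvd_of_surjective π hπ))
      (hp.trans (card_dvd_of_surjective π hπ)) h'
    set C := centralizer (π.ker : Set K)
    have hτ : Function.Surjective (π.comp C.subtype) := fun m => by
      obtain ⟨g, hg, e⟩ := hC.ge (mem_top m)
      exact ⟨⟨g, hg⟩, e⟩
    have hker : (e.toMonoidHom.comp (π.comp C.subtype)).ker = (π.comp C.subtype).ker := by
      ext z; simp [MonoidHom.mem_ker]
    obtain ⟨f⟩ := split_of hna π hπ hC (by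
      rw [← hker]
      refine cover23 _ (e.surjective.comp hτ) (perfect_congr hna e) (fun z hz g => Subtype.ext
          (mem_centralizer_iff.1 g.2 z (hker.le hz))) ?_
      refine Dvd.dvd.trans ?_ hR
      rw [hker, ← card_map_of_injective C.subtype_injective]
      refine card_dvd_of_le ?_
      rintro _ ⟨z, hz, rfl⟩
      exact hz)
    exact h3 (rho_right (Nat.Coprime.coprime_dvd_right hR (by norm_num))
      (h4.of_surj f.symm.toMonoidHom f.symm.surjective))
  · obtain ⟨e⟩ := equiv_of_card π hπ (h1.trans hG.symm)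
    exact e.isSimpleGroup

theorem simple_of_top {M : Subgroup G} (hs : IsSimpleGroup M) (h : Nat.card M = Nat.card G) :
    IsSimpleGroup G := by
  obtain rfl := eq_top_of_card_eq M h
  exact topEquiv.symm.isSimpleGroup

theorem not_mul {s : Finset ℕ} {p : ℕ} (h : ∀ g : G, orderOf g ∈ s)
    (hs : ∀ n ∈ s, p ∣ n → n = p) (hp : 0 < p) (r : ℕ) (hr : r.Prime) (g : G) :
    orderOf g ≠ r * p := fun e => by
  have := hs _ (h g) (e ▸ dvd_mul_left _ _)
  rw [e] at this
  have := hr.two_le
  nlinarith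

theorem simple11 (H : Hyp.{u}) (hG : Nat.card G = 7920)
    (h : ∀ g : G, orderOf g ∈ ({1, 2, 3, 4, 5, 6, 8, 11} : Finset ℕ)) : IsSimpleGroup G := by
  obtain ⟨M, hs, hna, hp, hle⟩ := big_simple (G := G) (p := 11) (by norm_num) (by norm_num)
    (by rw [hG]; norm_num) (by rw [hG]; norm_num) (noOne11.of_dvd (by rw [hG]; norm_num))
    (fun x => cc_of_spec (by norm_num) (by rw [hG]; norm_num)
      (not_mul h (by decide) (by norm_num))) (by rw [hG]; norm_num)
  have hd := card_subgroup_dvd_card M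
  rw [hG] at hd hle
  have h6 : Nat.card M < 6000 → False := fun h6 => by
    have := Small.card_mem hna h6
    simp only [List.mem_cons, List.not_mem_nil, or_false] at this
    omega
  rcases H.t2 M hna (hd.trans (by norm_num)) hp with h1 | h1 | h1
  · exact (h6 (by omega)).elim
  · exact simple_of_top hs (h1.trans hG.symm)
  · rw [h1] at hd; norm_num at hd

theorem simple22 (H : Hyp.{u}) (h : N22 G) : IsSimpleGroup G := by
  have hG := h.card
  obtain ⟨M, hs, hna, hp, hle⟩ := big_simple (G := G) (p := 11) (by norm_num) (by norm_num)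
    (by rw [hG]; norm_num) (by rw [hG]; norm_num) (hG ▸ noOne11)
    (fun x => cc_of_spec (by norm_num) (by rw [hG]; norm_num)
      (not_mul h.spec (by decide) (by norm_num))) (by rw [hG]; norm_num)
  have hd := card_subgroup_dvd_card M
  rw [hG] at hd hle
  rcases H.t2 M hna hd hp with h1 | h1 | h1
  · omega
  · omega
  · exact simple_of_top hs (h1.trans hG.symm)

theorem simple23 (H : Hyp.{u}) (h : N23 G) : IsSimpleGroup G := by
  have hG := h.card
  obtain ⟨M, hs, hna, hp, hle⟩ := big_simple (G := G) (p := 23) (by norm_num) (by norm_num)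
    (by rw [hG]; norm_num) (by rw [hG]; norm_num) (noOne23.of_dvd (by rw [hG]; norm_num))
    (fun x => cc_of_spec (by norm_num) (by rw [hG]; norm_num)
      (not_mul h.spec (by decide) (by norm_num))) (by rw [hG]; norm_num)
  have hd := card_subgroup_dvd_card M
  rw [hG] at hd hle
  rcases H.t1 M hna (hd.trans (by norm_num)) hp with h1 | h1 | h1
  · omega
  · exact simple_of_top hs (h1.trans hG.symm)
  · rw [h1] at hd; norm_num at hd

theorem simple24 (H : Hyp.{u}) (h : N24 G) : IsSimpleGroup G := by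
  have hG := h.card
  obtain ⟨M, hs, hna, hp, hle⟩ := big_simple (G := G) (p := 23) (by norm_num) (by norm_num)
    (by rw [hG]; norm_num) (by rw [hG]; norm_num) (hG ▸ noOne23)
    (fun x => cc_of_spec (by norm_num) (by rw [hG]; norm_num)
      (not_mul h.spec (by decide) (by norm_num))) (by rw [hG]; norm_num)
  have hd := card_subgroup_dvd_card M
  rw [hG] at hd hle
  rcases H.t1 M hna hd hp with h1 | h1 | h1
  · omega
  · omega
  · exact simple_of_top hs (h1.trans hG.symm)

theorem src22 (H : Hyp.{u}) (h : N22 G) : Rho G 55 ∧ Rho G 77 ∧ Rho G 33 :=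
  haveI := simple22 H h
  (H.i22 G h.card).2

theorem src23 (H : Hyp.{u}) (h : N23 G) : Rho G 253 :=
  haveI := simple23 H h
  (H.i23 G h.card).2.1

theorem src24 (H : Hyp.{u}) (h : N24 G) : Rho G 253 ∧ Rho G 161 :=
  haveI := simple24 H h
  (H.i24 G h.card).2

theorem card_sub {A B : Type*} [Group A] [Group B] {K : Subgroup B} (e : A ≃* K) :
    Nat.card A = Nat.card K := Nat.card_congr e.toEquiv

theorem main (H : Hyp.{u}) (H₀ : Hyp.{0}) {M : Type*} [Group M] [Finite M]
    (hM : Spor.IsoM11 M ∨ Spor.IsoM22 M ∨ Spor.IsoM23 M ∨ Spor.IsoM24 M)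
    (hcard : Nat.card G = Nat.card M) (hΔ : degreeGraph G = degreeGraph M) :
    Nonempty (G ≃* M) := by
  have h1 : ∀ {B : Type} [Group B] {X : Subgroup B} (_ : M ≃* X) (p q : ℕ), p ≠ q → p.Prime → q.Prime →
      Rho X (p * q) → Rho G (p * q) := fun e p q h hp hq hX => by
    have : Rho G (p * q) ↔ Rho M (p * q) := by
      simpa [degreeGraph, h, hp, hq, Small.rho_iff] using congrArg (fun Γ => Γ.Adj p q) hΔ
    exact this.2 (hX.of_surj e.toMonoidHom e.surjective)
  rcases hM with ⟨⟨e⟩⟩ | ⟨⟨e⟩⟩ | ⟨⟨e⟩⟩ | ⟨⟨e⟩⟩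
  · obtain ⟨e'⟩ := nonempty_M11_equiv
    let f := e.trans e'
    have hG : Nat.card G = 7920 := by rw [hcard, Nat.card_congr f.toEquiv, card_Mx]
    haveI := simple11 H₀ card_Mx fun g => (data_Mx.1 g).1
    haveI := case11 H hG (h1 f 5 11 (by norm_num) (by norm_num) (by norm_num) (rho55 card_Mx))
    obtain ⟨g⟩ := M12R.m11 hG
    exact ⟨g.trans f.symm⟩
  · have e₀ : Spor.M22 ≃* cl ms22 := (Spor.M22.equivMapOfInjective eM.toMonoidHom eM.injective).trans
      (MulEquiv.subgroupCongr cl22_eq.symm)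
    have f : M ≃* cl ms22 := e.trans e₀
    have hG : Nat.card G = 443520 := hcard.trans ((card_sub f).trans card_cl22)
    obtain ⟨k1, k2, k3⟩ := src22 H₀ (n22_of_nse card_cl22 nse22)
    haveI := case22 H hG (h1 f 5 11 (by norm_num) (by norm_num) (by norm_num) k1)
      (h1 f 7 11 (by norm_num) (by norm_num) (by norm_num) k2)
      (h1 f 3 11 (by norm_num) (by norm_num) (by norm_num) k3)
    obtain ⟨g⟩ := (H.i22 G hG).1.nonempty_equiv
    exact ⟨g.trans f.symm⟩
  · have e₀ : Spor.M23 ≃* cl ms23 := (Spor.M23.equivMapOfInjective eM.toMonoidHom eM.injective).trans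
      (MulEquiv.subgroupCongr cl23_eq.symm)
    have f : M ≃* cl ms23 := e.trans e₀
    have hG : Nat.card G = 10200960 := hcard.trans ((card_sub f).trans card_cl23)
    have k1 := src23 H₀ (n23_of_nse card_cl23 nse23)
    haveI := case23 H hG (h1 f 11 23 (by norm_num) (by norm_num) (by norm_num) k1)
    obtain ⟨g⟩ := (H.i23 G hG).1.nonempty_equiv
    exact ⟨g.trans f.symm⟩
  · have e₀ : Cfsg.M24 ≃* cl ms24 := (Cfsg.M24.equivMapOfInjective eM.toMonoidHom eM.injective).trans
      (MulEquiv.subgroupCongr cl24_eq.symm)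
    have f : M ≃* cl ms24 := e.trans e₀
    have hG : Nat.card G = 244823040 := hcard.trans ((card_sub f).trans card_cl24)
    obtain ⟨k1, k2⟩ := src24 H₀ (n24_of_nse card_cl24 nse24)
    haveI := case24 H hG (h1 f 11 23 (by norm_num) (by norm_num) (by norm_num) k1)
      (h1 f 7 23 (by norm_num) (by norm_num) (by norm_num) k2)
    obtain ⟨g⟩ := (H.i24 G hG).1.nonempty_equiv
    exact ⟨g.trans f.symm⟩

end Cfsg.Agent.MR
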