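import Cfsg.Agent.M12R.Red
import Cfsg.Agent.M12R.D11

/-!
# Reduction of a group with characters of defect zero to a simple section
-/

set_option autoImplicit false

namespace Cfsg.Agent.MR

open Subgroup MulAction Cfsg.Agent.Local Cfsg.Agent.M11 Cfsg.Agent.Char Cfsg.Agent.Zass
  Cfsg.Agent.Small Cfsg.Agent.M12R
open scoped ComplexConjugate

universe u

variable {G : Type u} [Group G] [Finite G]

/-- no prime power `≡ 1 mod p` divides `N` -/
def NoOne (N p : ℕ) : Prop := ∀ r j : ℕ, r.Prime → r ^ (j + 1) ∣ N → r ^ (j + 1) % p ≠ 1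

theorem NoOne.of_dvd {N N' p : ℕ} (h : NoOne N p) (hd : N' ∣ N) : NoOne N' p :=
  fun r j hr h1 => h r j hr (h1.trans hd)

theorem noOne_aux {p : ℕ}
    (h : ∀ r ∈ [2, 3, 5, 7, 11, 23], ∀ j < 28, r ^ (j + 1) ∣ 244823040 → r ^ (j + 1) % p ≠ 1) :
    NoOne 244823040 p := fun r j hr h1 => by
  have h2 : r ∣ 2 ^ 10 * 3 ^ 3 * 5 * 7 * 11 * 23 := (dvd_pow_self r j.succ_ne_zero).trans h1
  have h3 : r ∈ [2, 3, 5, 7, 11, 23] := by
    simp only [hr.dvd_mul, List.mem_cons, List.not_mem_nil, or_false] at h2 ⊢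
    rcases h2 with ((((h2 | h2) | h2) | h2) | h2) | h2
    · exact Or.inl ((Nat.prime_dvd_prime_iff_eq hr Nat.prime_two).1 (hr.dvd_of_dvd_pow h2))
    · exact Or.inr (Or.inl ((Nat.prime_dvd_prime_iff_eq hr Nat.prime_three).1 (hr.dvd_of_dvd_pow h2)))
    · exact Or.inr (Or.inr (Or.inl ((Nat.prime_dvd_prime_iff_eq hr Nat.prime_five).1 h2)))
    · exact Or.inr (Or.inr (Or.inr (Or.inl ((Nat.prime_dvd_prime_iff_eq hr Nat.prime_seven).1 h2))))
    · exact Or.inr (Or.inr (Or.inr (Or.inr (Or.inl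
        ((Nat.prime_dvd_prime_iff_eq hr Nat.prime_eleven).1 h2)))))
    · exact Or.inr (Or.inr (Or.inr (Or.inr (Or.inr
        ((Nat.prime_dvd_prime_iff_eq hr (by norm_num)).1 h2)))))
  refine h r h3 j ?_ h1
  by_contra h4
  have h5 := (Nat.pow_le_pow_left hr.two_le 28).trans (Nat.pow_le_pow_right hr.pos (by omega : 28 ≤ j + 1))
  have := Nat.le_of_dvd (by norm_num) h1
  omega

theorem noOne23 : NoOne 244823040 23 := noOne_aux (by decide +kernel)

theorem noOne11 : NoOne 443520 11 := fun r j hr h1 => by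
  by_cases h : r = 2 ∧ j = 9
  · obtain ⟨rfl, rfl⟩ := h
    exact absurd h1 (by decide)
  by_cases h' : r = 23
  · subst h'
    exact absurd ((dvd_pow_self 23 j.succ_ne_zero).trans h1) (by decide)
  have h2 : r ∣ 2 ^ 10 * 3 ^ 3 * 5 * 7 * 11 * 23 :=
    ((dvd_pow_self r j.succ_ne_zero).trans h1).trans (by decide)
  have h4 : j < 28 := by
    by_contra h4
    have h5 := (Nat.pow_le_pow_left hr.two_le 28).trans
      (Nat.pow_le_pow_right hr.pos (by omega : 28 ≤ j + 1))
    have := Nat.le_of_dvd (by norm_num) h1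
    omega
  have h3 : r < 24 := by
    simp only [hr.dvd_mul] at h2
    rcases h2 with ((((h2 | h2) | h2) | h2) | h2) | h2
    · have := Nat.le_of_dvd (by norm_num) (hr.dvd_of_dvd_pow h2); omega
    · have := Nat.le_of_dvd (by norm_num) (hr.dvd_of_dvd_pow h2); omega
    all_goals have := Nat.le_of_dvd (by norm_num) h2; omega
  exact (by decide +kernel : ∀ r < 24, r.Prime → ∀ j < 28, r ^ (j + 1) ∣ 443520 →
    r ^ (j + 1) % 11 ≠ 1) r h3 hr j h4 h1

theorem centP {p : ℕ} (hp : p.Prime) (hA : NoOne (Nat.card G) p) {x : G} (hx : orderOf x = p)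
    {R : Subgroup G} [R.Normal] (hR : (Nat.card R).Coprime p) : R ≤ centralizer {x} :=
  le_of_forall_exists_isSylowIn_le fun r hr hd => by
    have := Fact.mk hr
    obtain ⟨T, h1, h2⟩ := exists_invariant_isSylowIn (le_normalizer_of_normal' (zpowers x) R)
      (by rw [Nat.card_zpowers, hx]; exact hR.symm) (Or.inl (isSolvable_zpowers x)) r
    refine ⟨T, h1, ?_⟩
    obtain ⟨b, hb⟩ := h1.isPGroup.exists_card_eq
    obtain ⟨d, hd'⟩ := card_dvd_of_le (inf_le_left : T ⊓ centralizer {x} ≤ T)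
    obtain ⟨j, -, rfl⟩ := (Nat.dvd_prime_pow hr).1 (hb ▸ Dvd.intro_left _ hd'.symm)
    obtain ⟨i, -, hi⟩ := (Nat.dvd_prime_pow hr).1 (hb ▸ Dvd.intro _ hd'.symm)
    have h3 := card_modEq_cent hp hx (h2 (mem_zpowers x))
    rw [hd', hi] at h3
    have h4 : r ^ j ≡ 1 [MOD p] := Nat.ModEq.cancel_left_of_coprime
      ((Nat.Coprime.coprime_dvd_left hd hR).symm.pow_right i) (by rwa [mul_one])
    rcases j with _ | j
    · exact inf_eq_left.1 (eq_of_le_of_card_ge inf_le_left (by rw [hd']; simp))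
    refine absurd ?_ (hA r j hr ((Dvd.intro_left _ hd'.symm).trans (card_subgroup_dvd_card T)))
    rw [h4, Nat.mod_eq_of_lt hp.one_lt]

/-- primes of defect zero descend to a normal subgroup -/
theorem down (H : Subgroup G) [H.Normal] {χ : G → ℂ} (hχ : IsIrrCharacter G χ) :
    ∃ θ : H → ℂ, IsIrrCharacter H θ ∧ ∀ q : ℕ, q.Prime → ¬ q * q ∣ Nat.card G → q ∣ deg χ →
      q ∣ Nat.card H → q ∣ deg θ := by
  classical
  have hN : FT.Nrm H ⊤ := ⟨le_top, le_normalizer_of_normal' _ _⟩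
  obtain ⟨θ, hθ, h1⟩ := (isIrr_top hχ).exists_constt_Res (le_top (a := H))
  refine ⟨fun h => θ h, hθ.irr, fun q hq hsq hd hH => ?_⟩
  have := Fact.mk hq
  obtain ⟨m, hm⟩ := hH.trans (card_subgroup_dvd_card H)
  have hqm : ¬ q ∣ m := fun e => hsq (hm ▸ Nat.mul_dvd_mul_left q e)
  obtain ⟨y, hyH, hy⟩ := exists_mem_orderOf_eq_of_dvd_card hq hH
  have h2 := FT.Clifford_Res_sum_cfclass hN (isIrr_top hχ) hθ h1
  have h3 : FT.IsChar H (∑ ξ ∈ FT.cfclass ⊤ θ, ξ) :=
    FT.isChar_sum fun ξ hξ => (hθ.of_mem_cfclass hN.norm hξ).char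
  have h4 : ∀ u ∈ zpowers (⟨y, hyH⟩ : H), u ≠ 1 → (∑ ξ ∈ FT.cfclass ⊤ θ, ξ) u = ((0 : ℤ) : ℂ) := by
    intro u hu u1
    have h5 : orderOf (u : G) = q := by
      have h5 := orderOf_dvd_card_of_mem hu
      rw [Nat.card_zpowers, show orderOf (⟨y, hyH⟩ : H) = q from (orderOf_mk y hyH).trans hy,
        Nat.dvd_prime hq, orderOf_eq_one_iff] at h5
      rw [Subgroup.orderOf_coe]
      exact h5.resolve_left u1
    have h6 := congrFun h2 u
    rw [FT.Res_of_mem u.2, PSL2Rec.irr_eq_zero_of_dvd hχ hq hm hd hqm h5.symm.dvd, Pi.smul_apply,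
      smul_eq_mul, eq_comm, mul_eq_zero] at h6
    rw [h6.resolve_left h1, Int.cast_zero]
  obtain ⟨k, hk⟩ := res_const h3.chr (zpowers (⟨y, hyH⟩ : H)) h4
  have h5 : deg (fun h : H => (∑ ξ ∈ FT.cfclass ⊤ θ, ξ) h) =
      (FT.inertia H θ).index * deg fun h : H => θ h := deg_of_eq (by
    rw [OneMemClass.coe_one, Finset.sum_apply,
      Finset.sum_congr rfl fun ξ hξ => FT.apply_one_of_mem_cfclass hξ, Finset.sum_const,
      FT.card_cfclass hN.norm, relIndex_top_right, nsmul_eq_mul, Nat.cast_mul, ← irr_deg hθ.irr]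
    rfl)
  rw [h5, Nat.card_zpowers, orderOf_mk, hy, mul_zero, add_zero] at hk
  have h6 : q ∣ (FT.inertia H θ).index * deg fun h : H => θ h := ⟨k, by exact_mod_cast hk⟩
  refine (hq.dvd_mul.1 h6).resolve_left fun e => hsq ?_
  rw [← H.card_mul_index]
  exact mul_dvd_mul hH (e.trans (index_dvd_of_le hθ.cf.le_inertia))

theorem down2 (H : Subgroup G) [H.Normal] {p q : ℕ} (hp : p.Prime) (hq : q.Prime) (hpq : p ≠ q)
    (h1 : ¬ p * p ∣ Nat.card G) (h2 : ¬ q * q ∣ Nat.card G) (h3 : p ∣ Nat.card H) (h4 : q ∣ Nat.card H)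
    (h : Rho G (p * q)) : Rho H (p * q) := by
  obtain ⟨χ, hχ, hd⟩ := h
  obtain ⟨θ, hθ, h5⟩ := down H hχ
  exact ⟨θ, hθ, Nat.Coprime.mul_dvd_of_dvd_of_dvd ((Nat.coprime_primes hp hq).2 hpq)
    (h5 p hp h1 ((dvd_mul_right p q).trans hd) h3) (h5 q hq h2 ((dvd_mul_left q p).trans hd) h4)⟩

/-- the simple section attached to a character of `p`-defect zero -/
theorem comp {p : ℕ} (hp : p.Prime) (hd : p ∣ Nat.card G) (hsq : ¬ p * p ∣ Nat.card G)
    (hA : NoOne (Nat.card G) p) (h : Rho G p) :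
    ∃ (H : Subgroup G) (_ : H.Normal) (S : Type u) (_ : Group S) (_ : Finite S) (π : H →* S),
      Function.Surjective π ∧ IsSimpleGroup S ∧ ¬ IsMulCommutative S ∧ p ∣ Nat.card S ∧
      (centralizer (π.ker : Set H)).map π = ⊤ ∧
      ((∀ φ : MulAut S, ∃ s, φ = MulAut.conj s) → H = ⊤) := by
  have := Fact.mk hp
  obtain ⟨m, hm⟩ := hd
  have hqm : ¬ p ∣ m := fun e => hsq (hm ▸ Nat.mul_dvd_mul_left p e)
  have hco := coprime_card_pPrimeCore (G := G) p
  have hc := fun (x : G) (hx : orderOf x = p) => centP hp hA hx hco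
  obtain ⟨M, h1, h2, h3, h4⟩ := struct hp hm hqm h hc
  set R := pPrimeCore p G
  let H := M.comap (QuotientGroup.mk' R)
  let π : H →* M := (QuotientGroup.mk' R).subgroupComap M
  have hπ : Function.Surjective π := MonoidHom.subgroupComap_surjective_of_surjective _ _
    (QuotientGroup.mk'_surjective R)
  have hk : ∀ g : H, g ∈ π.ker ↔ (g : G) ∈ R := fun g => by
    rw [MonoidHom.mem_ker, ← QuotientGroup.eq_one_iff, Subtype.ext_iff]
    rfl
  refine ⟨H, inferInstance, M, inferInstance, inferInstance, π, hπ, h2, h3, h4, ?_, fun ho => ?_⟩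
  swap
  · have k1 : Disjoint (centralizer (M : Set (G ⧸ R))) M := disjoint_def.2 fun {g} k1 k2 => by
      by_contra k3
      have k4 := Small.le_of_simple k2 k1 k3
      exact h3 ⟨⟨fun a b => Subtype.ext (mem_centralizer_iff.1 (k4 b.2) _ a.2)⟩⟩
    have k2 : centralizer (M : Set (G ⧸ R)) = ⊥ := by
      rw [eq_bot_iff, ← pPrimeCore_quotient_eq_bot p]
      refine le_pPrimeCore inferInstance ?_
      have k3 : Nat.card (centralizer (M : Set (G ⧸ R))) ∣ M.index := by
        rw [index_eq_card]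
        exact card_dvd_of_injective ((QuotientGroup.mk' M).comp (Subgroup.subtype _))
          ((injective_iff_map_eq_one _).2 fun a ha =>
            Subtype.ext (disjoint_def.1 k1 a.2 ((QuotientGroup.eq_one_iff _).1 ha)))
      refine (hp.coprime_iff_not_dvd.2 fun e => hsq ?_).symm
      refine Dvd.dvd.trans ?_ (card_quotient_dvd_card R)
      rw [← M.card_mul_index]
      exact mul_dvd_mul h4 (e.trans k3)
    have k3 : M = ⊤ := eq_top_iff.2 fun g _ => by
      obtain ⟨m, hm⟩ := ho (MulAut.conjNormal g)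
      have k4 : (m : G ⧸ R)⁻¹ * g ∈ centralizer (M : Set _) :=
        mem_centralizer_iff.2 fun a ha => by
          have k6 : g * a * g⁻¹ = m * a * (m : G ⧸ R)⁻¹ :=
            congrArg Subtype.val (show MulAut.conjNormal g (⟨a, ha⟩ : M) = MulAut.conj m ⟨a, ha⟩ by
              rw [hm])
          calc _ = (m : G ⧸ R)⁻¹ * (m * a * (m : G ⧸ R)⁻¹) * g := by group
            _ = _ := by rw [← k6]; group
      rw [k2, mem_bot, inv_mul_eq_one] at k4
      exact k4 ▸ m.2
    simp only [H, k3, comap_top]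
  obtain ⟨x, hx⟩ := exists_prime_orderOf_dvd_card' (G := H) p (h4.trans (card_dvd_of_surjective π hπ))
  have hx' : orderOf (x : G) = p := by rw [Subgroup.orderOf_coe, hx]
  have hxC : x ∈ centralizer (π.ker : Set H) := mem_centralizer_iff.2 fun r hr =>
    Subtype.ext (mem_centralizer_singleton_iff.1 (hc x hx' ((hk r).1 hr)))
  refine (Normal.map inferInstance π hπ).eq_bot_or_eq_top.resolve_left fun e => ?_
  have h5 : (x : G) ∈ R := (hk x).1 (mem_bot.1 (e.le (mem_map_of_mem π hxC)))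
  exact hp.coprime_iff_not_dvd.1 hco.symm (hx' ▸ orderOf_dvd_card_of_mem h5)

theorem card_ker {S : Type*} [Group S] (π : G →* S) (hπ : Function.Surjective π) :
    Nat.card S * Nat.card π.ker = Nat.card G := by
  rw [card_eq_card_quotient_mul_card_subgroup π.ker,
    Nat.card_congr (QuotientGroup.quotientKerEquivOfSurjective π hπ).toEquiv]

/-- a degree divisible by two primes of the central section bounds its order -/
theorem sq_le {S : Type*} [Group S] [Finite S] (π : G →* S) (hπ : Function.Surjective π)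
    (hC : (centralizer (π.ker : Set G)).map π = ⊤) {p q : ℕ} (hp : p.Prime) (hq : q.Prime) (hpq : p ≠ q)
    (h1 : ¬ p * p ∣ Nat.card G) (h2 : ¬ q * q ∣ Nat.card G) (h3 : p ∣ Nat.card S) (h4 : q ∣ Nat.card S)
    (h : Rho G (p * q)) : p * q * (p * q) ≤ Nat.card S := by
  classical
  have := Fintype.ofFinite G
  obtain ⟨χ, hχ, hd⟩ := h
  have hG := card_ker π hπ
  set R := π.ker
  have := Fintype.ofFinite R
  have key : ∀ {r : ℕ}, r.Prime → ¬ r * r ∣ Nat.card G → r ∣ Nat.card S → r ∣ deg χ →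
      ∀ η : IrrCharacter R, ∃ m : ℕ, classInner (fun a : R => χ a) η.1 = r * m := by
    intro r hr k1 k2 k3 η
    have k4 : ¬ r ∣ Nat.card R := fun e => k1 (hG ▸ mul_dvd_mul k2 e)
    obtain ⟨u, k5, k6⟩ := exists_mem_orderOf_eq_of_dvd_card (H := centralizer (R : Set G)) hr
      (k2.trans (by rw [← card_top (G := S), ← hC]; exact card_map_dvd _ _))
    obtain ⟨m, hm⟩ := k2.trans (hG ▸ dvd_mul_right _ _ : Nat.card S ∣ Nat.card G)
    exact k6 ▸ dvd_mult (irr_isCharacter hχ) R k5 (fun v hv v1 a ha =>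
      PSL2Rec.irr_eq_zero_of_dvd hχ hr hm k3 (fun e => k1 (hm ▸ Nat.mul_dvd_mul_left r e)) (by
        have h5 := orderOf_dvd_card_of_mem hv
        rw [Nat.card_zpowers, k6, Nat.dvd_prime hr, orderOf_eq_one_iff] at h5
        rw [Commute.orderOf_mul_eq_mul_orderOf_of_coprime
          (mem_centralizer_iff.1 (zpowers_le_of_mem k5 hv) a ha).symm, h5.resolve_left v1]
        · exact dvd_mul_right _ _
        · rw [h5.resolve_left v1]
          exact hr.coprime_iff_not_dvd.2 fun e => k4 (e.trans (orderOf_dvd_card_of_mem ha))))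
      (irr_isCharacter η.2)
  have hψ := char_restrict (irr_isCharacter hχ) R
  choose n hn using fun η : IrrCharacter R => inner_char_char hψ (irr_isCharacter η.2)
  have h11 := inner_eq_sum_irr (char_isClassFunction hψ) fun r : R => χ r
  simp only [hn, map_natCast, inner_self_eq] at h11
  have h12 : (Nat.card R : ℝ)⁻¹ * ∑ r : R, ‖χ r‖ ^ 2 = (∑ η, n η * n η : ℕ) := by exact_mod_cast h11
  have h13 := inner_irr_self hχ
  rw [inner_self_eq] at h13
  have h14 : (Nat.card G : ℝ)⁻¹ * ∑ g, ‖χ g‖ ^ 2 = 1 := by exact_mod_cast h13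
  have h15 : ∑ r : R, ‖χ r‖ ^ 2 ≤ ∑ g, ‖χ g‖ ^ 2 := by
    rw [← Finset.sum_subtype (Finset.univ.filter (· ∈ R)) (by simp) fun g => ‖χ g‖ ^ 2]
    exact Finset.sum_le_sum_of_subset_of_nonneg (Finset.subset_univ _) fun _ _ _ => sq_nonneg _
  rw [inv_mul_eq_iff_eq_mul₀ (Nat.cast_ne_zero.2 Nat.card_pos.ne')] at h12 h14
  have h16 : 0 < ∑ r : R, ‖χ r‖ ^ 2 := Finset.sum_pos' (fun _ _ => sq_nonneg _)
    ⟨1, Finset.mem_univ _, pow_pos (norm_pos_iff.2 (irr_one_ne_zero hχ)) 2⟩
  rw [h12, h14, mul_one] at h15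
  rw [h12] at h16
  have h17 : Nat.card R * ∑ η, n η * n η ≤ Nat.card G := by exact_mod_cast h15
  have h18 : 0 < Nat.card R * ∑ η, n η * n η := by exact_mod_cast h16
  have h19 : p * q * (p * q) ∣ ∑ η, n η * n η := Finset.dvd_sum fun η _ => by
    obtain ⟨a, ha⟩ := key hp h1 h3 ((dvd_mul_right p q).trans hd) η
    obtain ⟨b, hb⟩ := key hq h2 h4 ((dvd_mul_left q p).trans hd) η
    rw [hn] at ha hb
    have h20 : n η = p * a := by exact_mod_cast ha
    have h21 : n η = q * b := by exact_mod_cast hb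
    have : p * q ∣ n η := Nat.Coprime.mul_dvd_of_dvd_of_dvd ((Nat.coprime_primes hp hq).2 hpq)
      ⟨a, h20⟩ ⟨b, h21⟩
    exact mul_dvd_mul this this
  have h20 := Nat.le_of_dvd (Nat.pos_of_mul_pos_left h18) h19
  rw [← hG, mul_comm (Nat.card S)] at h17
  exact h20.trans (Nat.le_of_mul_le_mul_left h17 Nat.card_pos)

/-- a self-centralising Sylow subgroup of prime order gives a large simple subgroup -/
theorem big_simple {p : ℕ} (hp : p.Prime) (h2 : p ≠ 2) (hd : p ∣ Nat.card G)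
    (hsq : ¬ p * p ∣ Nat.card G) (hA : NoOne (Nat.card G) p) (hc : ∀ x : G, orderOf x = p → cc x = p)
    (hb : p * p < Nat.card G) :
    ∃ M : Subgroup G, IsSimpleGroup M ∧ ¬ IsMulCommutative M ∧ p ∣ Nat.card M ∧
      Nat.card G ≤ Nat.card M * (p - 1) := by
  classical
  have := Fact.mk hp
  have := Fintype.ofFinite G
  obtain ⟨x, hx⟩ := exists_prime_orderOf_dvd_card' (G := G) p hd
  have hco := coprime_card_pPrimeCore (G := G) p
  have hO : pPrimeCore p G = ⊥ := by
    have h1 : Nat.card (pPrimeCore p G) ∣ cc x := card_dvd_of_le (centP hp hA hx hco)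
    rw [hc x hx] at h1
    exact card_eq_one.1 (Nat.Coprime.eq_one_of_dvd hco h1)
  have hs := simple_closure hp hsq hO hx
  set M := normalClosure ({x} : Set G)
  have hxM : x ∈ M := subset_normalClosure rfl
  have h : PP p x := ⟨h2, hx, hsq⟩
  obtain ⟨P, hP⟩ := h.syl.exists_sylow_of_top
  have h3 := frattini hP hxM
  have h4 := h.card_norm
  have h5 : (EE p x).card ≤ p - 1 := by
    have : EE p x ⊆ Finset.univ.erase 0 := fun i hi =>
      Finset.mem_erase.2 ⟨fun e => h.E0 (e ▸ hi), Finset.mem_univ _⟩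
    have := Finset.card_le_card this
    rwa [Finset.card_erase_of_mem (Finset.mem_univ _), Finset.card_univ, ZMod.card] at this
  have h6 := (normalizer (zpowers x : Set G)).card_mul_index
  have h7 := Nat.le_of_dvd Nat.card_pos
    (hx ▸ orderOf_dvd_card_of_mem (mem_inf.2 ⟨le_normalizer (mem_zpowers x), hxM⟩))
  rw [hc x hx] at h4
  have h8 : Nat.card G ≤ Nat.card M * (p - 1) := by
    rw [← h6, ← h4, ← h3]
    calc p * (EE p x).card * (normalizer (zpowers x : Set G)).index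
        = (normalizer (zpowers x : Set G)).index * p * (EE p x).card := by ring
      _ ≤ _ := Nat.mul_le_mul (Nat.mul_le_mul_left _ h7) h5
  refine ⟨M, hs, fun hab => ?_, hx ▸ orderOf_dvd_card_of_mem hxM, h8⟩
  have h9 : Nat.card M ≤ cc x := card_le_of_le fun g hg => mem_centralizer_singleton_iff.2
    (congrArg Subtype.val (hab.is_comm.comm (⟨g, hg⟩ : M) ⟨x, hxM⟩))
  rw [hc x hx] at h9
  have h10 : Nat.card M * (p - 1) ≤ p * p := Nat.mul_le_mul h9 (Nat.sub_le _ _)
  omega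

theorem cc_of_spec {p : ℕ} (hp : p.Prime) (hsq : ¬ p * p ∣ Nat.card G)
    (h : ∀ r : ℕ, r.Prime → ∀ g : G, orderOf g ≠ r * p) {x : G} (hx : orderOf x = p) : cc x = p := by
  obtain ⟨X, hX⟩ : p ∣ cc x := hx ▸ orderOf_dvd_cc rfl
  by_contra hn
  obtain ⟨r, hr, hrX⟩ := Nat.exists_prime_and_dvd (n := X) fun e => hn (by rw [hX, e, mul_one])
  obtain ⟨y, hy, hyx⟩ := exists_of_prime_dvd_cc hr (hX ▸ hrX.mul_left p)
  have hrp : r ≠ p := fun e => hsq ((Nat.mul_dvd_mul_left p (e ▸ hrX)).trans (hX ▸ cc_dvd x))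
  refine h r hr (y * x) ?_
  rw [hyx.orderOf_mul_eq_mul_orderOf_of_coprime (by
    rw [hy, hx]; exact (Nat.coprime_primes hr hp).2 hrp), hy, hx]

/-- splitting off a simple quotient -/
theorem split_of {S : Type*} [Group S] [Finite S] [IsSimpleGroup S] (hna : ¬ IsMulCommutative S)
    (π : G →* S) (hπ : Function.Surjective π) (hC : (centralizer (π.ker : Set G)).map π = ⊤)
    (h0 : commutator (centralizer (π.ker : Set G)) ⊓
      (π.comp (centralizer (π.ker : Set G)).subtype).ker = ⊥) : Nonempty (G ≃* π.ker × S) := by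
  set C := centralizer (π.ker : Set G)
  let τ : C →* S := π.comp C.subtype
  have hτ : Function.Surjective τ := fun m => by
    obtain ⟨g, hg, e⟩ := hC.ge (mem_top m)
    exact ⟨⟨g, hg⟩, e⟩
  have h3 : (commutator C).map τ = ⊤ := by
    rw [map_commutator_eq, MonoidHom.range_eq_top.2 hτ]
    exact perfect hna
  let ι : commutator C →* G := C.subtype.comp (commutator C).subtype
  have hb : Function.Bijective (π.comp ι) := ⟨(injective_iff_map_eq_one _).2 fun a ha =>
    Subtype.ext (mem_bot.1 (h0.le ⟨a.2, ha⟩)), fun m => by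
      obtain ⟨g, hg, e⟩ := h3.ge (mem_top m)
      exact ⟨⟨g, hg⟩, e⟩⟩
  let s : S →* G := ι.comp (MulEquiv.ofBijective _ hb).symm.toMonoidHom
  have hs1 : ∀ m, π (s m) = m := (MulEquiv.ofBijective _ hb).apply_symm_apply
  let f : π.ker × S →* G := π.ker.subtype.noncommCoprod s fun r m =>
    mem_centralizer_iff.1 ((MulEquiv.ofBijective _ hb).symm m).1.2 r r.2
  refine ⟨(MulEquiv.ofBijective f ((Nat.bijective_iff_surjective_and_card f).2 ⟨fun g => ?_, ?_⟩)).symm⟩
  · exact ⟨(⟨g * (s (π g))⁻¹, by rw [MonoidHom.mem_ker, map_mul, map_inv, hs1, mul_inv_cancel]⟩, π g),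
      inv_mul_cancel_right g _⟩
  · rw [Nat.card_prod, mul_comm, card_ker π hπ]

end Cfsg.Agent.MR
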