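import Cfsg.Agent.Block.Adams
import Cfsg.Agent.Mat.Golay
import Cfsg.Agent.Small.Rho

/-!
# Generalized characters of permutation groups of degree 24 from exterior powers
-/

set_option autoImplicit false

namespace Cfsg.Agent.MR

open Finset Cfsg.Agent.Char Cfsg.Agent.Block Cfsg.Agent.M11 Cfsg.Agent.Mat Cfsg.Agent.Zass
open scoped ComplexConjugate

section
variable {G : Type*} [Group G]

theorem gen_alt [Finite G] (p : ℕ) [hp : Fact p.Prime] {χ : G → ℂ} (hχ : IsCharacter G χ) :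
    IsGeneralizedCharacter G (fun g => (χ g ^ p - χ (g ^ p)) / p) := by
  classical
  have := Fintype.ofFinite G
  refine isGen_of_inner (fun g h => by
    rw [conj_pow, char_isClassFunction hχ, char_isClassFunction hχ]) fun φ hφ => ?_
  let μ : Multiplicative (ZMod p) →* ℂ := (ZMod.stdAddChar (N := p)).toMonoidHom
  have hμ : ∑ j, μ j = 0 :=
    (Multiplicative.ofAdd.sum_comp μ).symm.trans
      (AddChar.sum_eq_zero_of_ne_one (ψ := ZMod.stdAddChar (N := p)) (by
        have := ZMod.isPrimitive_stdAddChar p one_ne_zero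
        rwa [AddChar.mulShift_one] at this))
  obtain ⟨a, ha⟩ := inner_char_char (char_tensorShift (p := p) hχ)
    (char_mul (char_comp (irr_isCharacter hφ) (MonoidHom.fst _ _))
      (char_comp (irr_isCharacter (irr_of_monoidHom μ)) (MonoidHom.snd _ _)))
  refine ⟨a, ?_⟩
  have h1 : ∀ g, ∑ j : Multiplicative (ZMod p),
      (if j = 1 then χ g ^ p else χ (g ^ p)) * conj (φ g * μ j) =
      p * ((χ g ^ p - χ (g ^ p)) / p * conj (φ g)) := by
    intro g
    have h2 : ∀ j : Multiplicative (ZMod p),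
        (if j = 1 then χ g ^ p else χ (g ^ p)) * conj (φ g * μ j) =
        (if j = 1 then χ g ^ p * conj (φ g) - χ (g ^ p) * conj (φ g) else 0) +
          χ (g ^ p) * conj (φ g) * conj (μ j) := by
      intro j
      split_ifs with hj
      · simp [hj]
      · simp [mul_assoc]
    have h4 : (p : ℂ) ≠ 0 := by exact_mod_cast hp.out.ne_zero
    simp only [h2, Finset.sum_add_distrib, ← Finset.mul_sum, ← map_sum, hμ]
    simp
    field_simp
  simp only [classInner, Fintype.sum_prod_type, Pi.mul_apply, MonoidHom.coe_fst, MonoidHom.coe_snd,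
    h1, ← Finset.mul_sum, Nat.card_prod] at ha ⊢
  have h3 : Nat.card (Multiplicative (ZMod p)) = p := by simp
  have h4 : (p : ℂ) ≠ 0 := by exact_mod_cast hp.out.ne_zero
  have h5 := card_ne_zero' G
  rw [h3] at ha
  push_cast at ha ⊢
  rw [← ha]
  field_simp

theorem gen_alt2 [Finite G] {θ : G → ℂ} (h : IsGeneralizedCharacter G θ) :
    IsGeneralizedCharacter G (fun g => (θ g ^ 2 - θ (g ^ 2)) / 2) := by
  obtain ⟨a, b, ha, hb, rfl⟩ := h
  convert gen_add (gen_sub (gen_alt 2 ha) (gen_alt 2 hb))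
    (gen_sub (gen_of_char (char_mul hb hb)) (gen_of_char (char_mul ha hb))) using 1
  funext g
  simp only [Pi.sub_apply, Pi.add_apply, Pi.mul_apply]
  push_cast
  ring

theorem gen_pow {θ : G → ℂ} (h : IsGeneralizedCharacter G θ) (n : ℕ) :
    IsGeneralizedCharacter G (fun g => θ g ^ n) := by
  induction n with
  | zero => simp only [pow_zero]; exact gen_of_char char_one'
  | succ n ih => simp only [pow_succ]; exact gen_mul ih h

theorem sum_of_cover [Fintype G] {r : ℕ} (x : ℕ → G) (c : ℕ → ℕ) (hx : ∀ g, ∃ j < r, IsConj (x j) g)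
    (hc : ∀ j < r, c j ≤ cc (x j)) {N : ℕ} (hN : Nat.card G = N) (h0 : ∀ j < r, 0 < c j)
    (hs : ∑ j ∈ range r, N / c j = N) {F : G → ℂ} (hF : IsClassFunction G F) :
    ∑ g, F g = ∑ j ∈ range r, (N / c j : ℕ) * F (x j) := by
  classical
  have h1 : ∀ j ∈ range r, #{g | IsConj (x j) g} ≤ N / c j := fun j hj => by
    have hj' := mem_range.1 hj
    rw [Nat.le_div_iff_mul_le (h0 j hj'), ← hN, ← cc_mul (x j), mul_comm, ← Set.ncard_coe_finset,
      coe_filter_univ]
    exact Nat.mul_le_mul_right _ (hc j hj')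
  have h2 : ∀ g ∈ (univ : Finset G), 1 ≤ #{j ∈ range r | IsConj (x j) g} := fun g _ => by
    obtain ⟨j, hj, e⟩ := hx g
    exact card_pos.2 ⟨j, mem_filter.2 ⟨mem_range.2 hj, e⟩⟩
  have h3 : ∑ g, #{j ∈ range r | IsConj (x j) g} = ∑ j ∈ range r, #{g | IsConj (x j) g} := by
    simp only [card_filter]
    exact sum_comm
  have h4 : ∑ _g : G, 1 = N := by simp [← hN]
  have h5 := sum_le_sum h1
  have h6 := sum_le_sum h2
  have h7 := (sum_eq_sum_iff_of_le h1).1 (by omega)
  have h8 := (sum_eq_sum_iff_of_le h2).1 (by omega)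
  calc ∑ g, F g = ∑ g, ∑ j ∈ range r, if IsConj (x j) g then F (x j) else 0 :=
        sum_congr rfl fun g hg => by
          rw [← sum_filter, sum_congr rfl fun j hj => classFun_of_isConj hF (mem_filter.1 hj).2,
            sum_const, ← h8 g hg, one_smul]
    _ = _ := by
        rw [sum_comm]
        exact sum_congr rfl fun j hj => by rw [← sum_filter, sum_const, h7 j hj, nsmul_eq_mul]

end

section
variable {F : Type*} [Field F]

/-- second exterior power -/
def e2 (a b : F) : F := (a ^ 2 - b) / 2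

/-- third exterior power -/
def e3 (a b c : F) : F := a * e2 a b - (a ^ 3 - c) / 3

/-- fourth exterior power -/
def e4 (a b c d : F) : F := a * e3 a b c - (e2 a b ^ 2 - e2 b d) / 2

/-- polynomials in the exterior powers -/
def evP (L : List (ℤ × ℕ × ℕ × ℕ × ℕ)) (a b c d : F) : F :=
  (L.map fun t => (t.1 : F) * (a ^ t.2.1 * e2 a b ^ t.2.2.1 * e3 a b c ^ t.2.2.2.1 *
    e4 a b c d ^ t.2.2.2.2)).sum

end

theorem evP_cast (L : List (ℤ × ℕ × ℕ × ℕ × ℕ)) (a b c d : ℚ) :
    ((evP L a b c d : ℚ) : ℂ) = evP L (a : ℂ) b c d := by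
  induction L with
  | nil => simp [evP]
  | cons t L ih =>
    simp only [evP, List.map_cons, List.sum_cons] at ih ⊢
    rw [← ih]
    simp [e4, e3, e2]

theorem gen_evP {G : Type*} [Group G] [Finite G] {π : G → ℂ} (h : IsCharacter G π)
    (L : List (ℤ × ℕ × ℕ × ℕ × ℕ)) :
    IsGeneralizedCharacter G fun g => evP L (π g) (π (g ^ 2)) (π (g ^ 3)) (π (g ^ 4)) := by
  haveI : Fact (Nat.Prime 3) := ⟨by norm_num⟩
  have h1 := gen_of_char h
  have h2 : IsGeneralizedCharacter G fun g => e2 (π g) (π (g ^ 2)) := gen_alt2 h1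
  have h3 : IsGeneralizedCharacter G fun g => e3 (π g) (π (g ^ 2)) (π (g ^ 3)) :=
    gen_sub (gen_mul h1 h2) (gen_alt 3 h)
  have h4 : IsGeneralizedCharacter G fun g => e4 (π g) (π (g ^ 2)) (π (g ^ 3)) (π (g ^ 4)) := by
    have := gen_sub (gen_mul h1 h3) (gen_alt2 h2)
    simp only [← pow_mul] at this
    exact this
  induction L with
  | nil => exact gen_zero
  | cons t L ih =>
    exact gen_add (gen_int_smul (gen_mul (gen_mul (gen_mul (gen_pow h1 _) (gen_pow h2 _))
      (gen_pow h3 _)) (gen_pow h4 _)) t.1) ih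

theorem cp_mul {n : ℕ} [Fact (n ≤ 256)] (a b : CP n) : (a * b).1 = cmul n a.1 b.1 := rfl

theorem cp_one {n : ℕ} [Fact (n ≤ 256)] : (1 : CP n).1 = pack id n := rfl

/-- number of fixed points of a code -/
def fx (c : ℕ) : ℕ := #{i ∈ range 24 | lk c i = i}

/-- fixed points of the first four powers -/
def fx4 (c : ℕ) : ℕ × ℕ × ℕ × ℕ :=
  (fx c, fx (cmul 24 c c), fx (cmul 24 (cmul 24 c c) c), fx (cmul 24 (cmul 24 c c) (cmul 24 c c)))

/-- value from the fixed point numbers -/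
def evT (L : List (ℤ × ℕ × ℕ × ℕ × ℕ)) (t : ℕ × ℕ × ℕ × ℕ) : ℚ := evP L t.1 t.2.1 t.2.2.1 t.2.2.2

variable {K : Subgroup (CP 24)}

theorem char_fx : IsCharacter K fun g => (fx g.1.1 : ℂ) := by
  convert char_perm (G := K) (Fin 24) with g
  rw [fx, Nat.card_eq_fintype_card, Fintype.card_subtype, ← card_image_of_injective _ Fin.val_injective]
  congr 1
  ext i
  simp only [mem_filter, mem_range, mem_image, mem_univ, true_and, MulAction.mem_fixedBy]
  constructor
  · rintro ⟨h1, h2⟩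
    exact ⟨⟨i, h1⟩, Fin.ext ((CP.smul_val _ _).trans h2), rfl⟩
  · rintro ⟨i, h, rfl⟩
    exact ⟨i.2, (CP.smul_val _ _).symm.trans (congrArg Fin.val h)⟩

/-- the generalized character given by a polynomial -/
noncomputable def th (K : Subgroup (CP 24)) (L : List (ℤ × ℕ × ℕ × ℕ × ℕ)) (g : K) : ℂ :=
  evT L (fx4 g.1.1)

theorem gen_th (L : List (ℤ × ℕ × ℕ × ℕ × ℕ)) : IsGeneralizedCharacter K (th K L) := by
  convert gen_evP (G := K) char_fx L using 1
  funext g
  rw [th, evT, evP_cast, show g ^ 4 = g * g * (g * g) by rw [← sq, ← sq, ← pow_mul], pow_three', sq]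
  simp only [fx4, Rat.cast_natCast, Subgroup.coe_mul, cp_mul]

theorem th_one (L : List (ℤ × ℕ × ℕ × ℕ × ℕ)) : th K L 1 = evT L (24, 24, 24, 24) := by
  rw [th, Subgroup.coe_one, cp_one, show fx4 (pack id 24) = (24, 24, 24, 24) by decide +kernel]

/-- Class data. -/
structure Cov (K : Subgroup (CP 24)) [Fintype K] (r N : ℕ) (c o : ℕ → ℕ) (t : ℕ → ℕ × ℕ × ℕ × ℕ)
    (x : ℕ → K) : Prop where
  card : Nat.card K = N
  ord : ∀ j < r, orderOf (x j) = o j
  fix : ∀ j < r, fx4 (x j).1.1 = t j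
  sum : ∀ F, IsClassFunction K F → ∑ g, F g = ∑ j ∈ range r, (N / c j : ℕ) * F (x j)

variable [Fintype K] {r N : ℕ} {c o : ℕ → ℕ} {t : ℕ → ℕ × ℕ × ℕ × ℕ} {x : ℕ → K}

theorem Cov.inner (h : Cov K r N c o t x) {χ : K → ℂ} (hχ : IsClassFunction K χ)
    (L : List (ℤ × ℕ × ℕ × ℕ × ℕ)) : N * classInner (th K L) χ =
      ∑ j ∈ range r, (((N / c j : ℕ) * evT L (t j) : ℚ) : ℂ) * conj (χ (x j)) := by
  rw [classInner, ← h.card, mul_inv_cancel_left₀ (card_ne_zero' K), h.sum _ fun g k => by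
    rw [gen_isClassFunction (gen_th L), hχ], h.card]
  refine sum_congr rfl fun j hj => ?_
  rw [th, h.fix j (mem_range.1 hj), Rat.cast_mul, Rat.cast_natCast, mul_assoc]

theorem Cov.norm (h : Cov K r N c o t x) (L : List (ℤ × ℕ × ℕ × ℕ × ℕ)) {n : ℕ}
    (hn : ∑ j ∈ range r, (N / c j : ℕ) * evT L (t j) * evT L (t j) = (N * n : ℕ)) :
    classInner (th K L) (th K L) = n := by
  refine mul_left_cancel₀ (h.card ▸ card_ne_zero' K) ?_
  rw [h.inner (gen_isClassFunction (gen_th L)), ← Nat.cast_mul, ← Rat.cast_natCast, ← hn,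
    Rat.cast_sum]
  refine sum_congr rfl fun j hj => ?_
  rw [th, h.fix j (mem_range.1 hj), map_ratCast, ← Rat.cast_mul]

theorem Cov.irr (h : Cov K r N c o t x) (L : List (ℤ × ℕ × ℕ × ℕ × ℕ)) {d : ℕ}
    (hn : ∑ j ∈ range r, (N / c j : ℕ) * evT L (t j) * evT L (t j) = (N * 1 : ℕ))
    (hd : evT L (24, 24, 24, 24) = d) : IsIrrCharacter K (th K L) ∧ deg (th K L) = d := by
  have h1 : th K L 1 = d := by rw [th_one, hd, Rat.cast_natCast]
  exact ⟨irr_of_gen_norm_one (gen_th L) (by simpa using h.norm L hn) (by rw [h1]; simp),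
    deg_of_eq h1⟩

end Cfsg.Agent.MR
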